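import Groth.Agent.Lib.ProjFam.Quot

/-!
# `F(n)` is eventually a quotient of a free module; `F` is a quotient of sums of `O(-n)`
-/

noncomputable section

universe u

open CategoryTheory CategoryTheory.Limits AlgebraicGeometry TopologicalSpace Opposite DirectSum

namespace Groth.Agent.Lib.ProjFam.TwistQuot

open Groth.Agent.Lib.ProjTilde Groth.Agent.Lib.ProjTilde.Frac Groth.Agent.Lib.ProjTilde.Basic
  Groth.Agent.Lib.ProjTilde.Tensor Rat Fam Total Assoc Main Quot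

variable {R A : Type u} [CommRing R] [CommRing A] [Algebra R A] {𝒜 : ℕ → Submodule R A} [GradedAlgebra 𝒜]
variable {s : Finset A}

/-- A module `N` with `N~ ≅ F` and homogeneous elements of each large degree generating it locally. -/
theorem exists_model (hs1 : ∀ f ∈ s, f ∈ 𝒜 1)
    (hs : (HomogeneousIdeal.irrelevant 𝒜).toIdeal = Ideal.span (s : Set A))
    (F : (Proj 𝒜).Modules) [F.IsQuasicoherent] (hFT : CohB1.IsFT F) :
    ∃ (N : Submodule A (Tot hs1 F)) (_ : DirectSum.Decomposition (sGrade N)) (n₀ : ℕ),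
      Nonempty (GrTilde.tilde 𝒜 (sGrade N) 0 ≅ F) ∧ ∀ n, n₀ ≤ n → ∀ (m l : ℤ), m + n = l →
        ∃ (k : ℕ) (p : (∐ fun _ : Fin k => GrTilde.tilde 𝒜 𝒜 m) ⟶ GrTilde.tilde 𝒜 (sGrade N) l), Epi p := by
  classical
  obtain ⟨ι, hι, d, v, hv⟩ := exists_gens hs1 hFT
  cases nonempty_fintype ι
  let N := Submodule.span A (Set.range fun i => incl (d i) (v i))
  have hN : IsHomog N := isHomog_span d v
  letI := sDecomposition hN
  have hcov := cover_of_span hs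
  refine ⟨N, inferInstance, Finset.univ.sup d, nonempty_iso hcov hN fun f => eq_top_iff.mpr ((hv f).ge.trans
    (Submodule.span_mono ?_)), fun n hn m l h => ?_⟩
  · rintro _ ⟨i, rfl⟩
    exact ⟨(d i, ⟨_, Submodule.subset_span ⟨i, rfl⟩⟩), congrFun (comp_incl _ _) f⟩
  have hd : ∀ i, d i ≤ n := fun i => (Finset.le_sup (Finset.mem_univ i)).trans hn
  let gen : ι → N := fun i => ⟨incl (d i) (v i), Submodule.subset_span ⟨i, rfl⟩⟩
  let e := Fintype.equivFin (ι × s)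
  let x : Fin (Fintype.card (ι × s)) → N := fun a => (e.symm a).2.1 ^ (n - d (e.symm a).1) • gen (e.symm a).1
  have hx : ∀ a, Deg (sGrade N) (n : ℤ) (x a) := fun a => by
    refine ((Deg.of_mem (ℳ := sGrade N) (show gen (e.symm a).1 ∈ sGrade N (d (e.symm a).1) from incl_mem_grade _ _)
      (Or.inl (rfl : (d (e.symm a).1 : ℤ) = _))).smul (pow_mem (hs1 _ (e.symm a).2.2) _)).congr ?_
    have := hd (e.symm a).1
    omega
  refine ⟨_, _, epi_desc_mulHom (sGrade N) h x hx fun p j a haj => ?_⟩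
  clear haj
  obtain ⟨f, hf, hfp⟩ := hcov p
  refine ⟨n, f ^ n, pow_mem (hs1 _ hf) n, fun hh => hfp (p.isPrime.mem_of_pow_mem n hh), ?_⟩
  obtain ⟨a, ha⟩ := a
  induction ha using Submodule.span_induction with
  | mem a ha =>
    obtain ⟨i, rfl⟩ := ha
    have hmem : x (e (i, ⟨f, hf⟩)) ∈ Submodule.span A (Set.range x) := Submodule.subset_span ⟨_, rfl⟩
    have := Submodule.smul_mem _ (f ^ d i) hmem
    refine (congrArg (· ∈ Submodule.span A (Set.range x)) ?_).mpr this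
    simp only [x, Equiv.symm_apply_apply, smul_smul, ← pow_add, Nat.add_sub_cancel' (hd i)]
    rfl
  | zero => exact (congrArg (· ∈ Submodule.span A (Set.range x)) (smul_zero (f ^ n))).mpr (zero_mem _)
  | add a b ha hb iha ihb =>
    exact (congrArg (· ∈ Submodule.span A (Set.range x)) (smul_add (f ^ n) (⟨a, ha⟩ : N) ⟨b, hb⟩)).mpr
      (add_mem iha ihb)
  | smul c a ha iha =>
    exact (congrArg (· ∈ Submodule.span A (Set.range x)) (smul_comm (f ^ n) c (⟨a, ha⟩ : N))).mpr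
      (Submodule.smul_mem _ c iha)

theorem degOne_cover (hs1 : ∀ f ∈ s, f ∈ 𝒜 1)
    (hs : (HomogeneousIdeal.irrelevant 𝒜).toIdeal = Ideal.span (s : Set A)) (x : ProjectiveSpectrum 𝒜) :
    ∃ f ∈ 𝒜 1, f ∉ x.asHomogeneousIdeal := by
  obtain ⟨f, hf, hfx⟩ := cover_of_span hs x
  exact ⟨f, hs1 f hf, hfx⟩

theorem exists_epi_negTwist (hs1 : ∀ f ∈ s, f ∈ 𝒜 1)
    (hs : (HomogeneousIdeal.irrelevant 𝒜).toIdeal = Ideal.span (s : Set A))
    (F : (Proj 𝒜).Modules) [F.IsQuasicoherent] (hFT : CohB1.IsFT F) :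
    ∃ n₀ : ℕ, ∀ n : ℕ, n₀ ≤ n →
      ∃ (k : ℕ) (p : (∐ fun _ : Fin k => Twist.twist 𝒜 (-(n : ℤ))) ⟶ F), Epi p := by
  obtain ⟨N, _, n₀, ⟨iso⟩, hN⟩ := exists_model hs1 hs F hFT
  refine ⟨n₀, fun n hn => ?_⟩
  obtain ⟨k, p, hp⟩ := hN n hn (-(n : ℤ)) 0 (neg_add_cancel _)
  exact ⟨k, (Sigma.mapIso fun _ : Fin k => twistIsoTilde (-(n : ℤ))).hom ≫ p ≫ iso.hom,
    @epi_comp _ _ _ _ _ _ inferInstance _ (@epi_comp _ _ _ _ _ _ hp _ inferInstance)⟩

theorem exists_epi_free (hs1 : ∀ f ∈ s, f ∈ 𝒜 1)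
    (hs : (HomogeneousIdeal.irrelevant 𝒜).toIdeal = Ideal.span (s : Set A))
    (F : (Proj 𝒜).Modules) [F.IsQuasicoherent] (hFT : CohB1.IsFT F) :
    ∃ n₀ : ℕ, ∀ n : ℕ, n₀ ≤ n →
      ∃ (k : ℕ) (p : FlatMod.freeMod (Proj 𝒜) k ⟶ Twist.twistBy 𝒜 F (n : ℤ)), Epi p := by
  obtain ⟨N, _, n₀, ⟨iso⟩, hN⟩ := exists_model hs1 hs F hFT
  refine ⟨n₀, fun n hn => ?_⟩
  obtain ⟨k, p, hp⟩ := hN n hn 0 (0 + (n : ℤ)) rfl
  exact ⟨k, (Sigma.mapIso fun _ : Fin k => unitIsoTilde).hom ≫ p ≫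
      (tensorTwistIso (ℳ := sGrade N) (degOne_cover hs1 hs) 0 (n : ℤ)).inv ≫
        (Groth.Agent.Lib.TensorMod.Basic.tensorIso iso (Iso.refl _)).hom,
    @epi_comp _ _ _ _ _ _ inferInstance _ (@epi_comp _ _ _ _ _ _ hp _ inferInstance)⟩

end Groth.Agent.Lib.ProjFam.TwistQuot
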