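import Groth.Agent.Lib.ProjFam.Total
import Groth.Agent.Lib.ProjTilde.Hom
import Groth.Agent.Lib.ClSub.Basis

/-!
# A quasi-coherent module on `Proj` is associated to a graded module of compatible families
-/

noncomputable section

universe u

open CategoryTheory AlgebraicGeometry TopologicalSpace Opposite DirectSum

namespace Groth.Agent.Lib.ProjFam.Assoc

open Groth.Agent.Lib.QCoh.Localizing Groth.Agent.Lib.ProjTilde Groth.Agent.Lib.ProjTilde.Frac
  Groth.Agent.Lib.ProjTilde.Basic Rat Fam Total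

variable {R A : Type u} [CommRing R] [CommRing A] [Algebra R A] {𝒜 : ℕ → Submodule R A} [GradedAlgebra 𝒜]
variable {s : Finset A} {hs1 : ∀ f ∈ s, f ∈ 𝒜 1} {F : (Proj 𝒜).Modules}

variable (N : Submodule A (Tot hs1 F))

/-- `N` is a homogeneous submodule. -/
def IsHomog : Prop := ∀ x ∈ N, ∀ n, incl n ⟨comp n x, comp_mem n x⟩ ∈ N

/-- The grading of a homogeneous submodule. -/
def sGrade (n : ℕ) : Submodule R N := (grade (hs1 := hs1) (F := F) n).comap (N.subtype.restrictScalars R)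

instance : SetLike.GradedSMul 𝒜 (sGrade N) where
  smul_mem {i j a x} ha hx := by
    obtain ⟨v, hv⟩ := hx
    exact ⟨_, ((smul_incl ha v).symm.trans (congrArg (a • ·) hv))⟩

variable {N}

/-- The decomposition of a homogeneous submodule. -/
@[implicit_reducible]
def sDecomposition (hN : IsHomog N) : DirectSum.Decomposition (sGrade N) := by
  refine (DirectSum.IsInternal.chooseDecomposition (ℳ := sGrade N) ⟨?_, ?_⟩)
  · intro x y h
    refine DirectSum.ext fun n => Subtype.ext (Subtype.ext (tot_ext fun m => ?_))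
    have key : ∀ z : ⨁ n, sGrade N n,
        comp m ((DirectSum.coeAddMonoidHom (sGrade N) z : N) : Tot hs1 F) = comp m ((z m : N) : Tot hs1 F) := by
      intro z
      induction z using DirectSum.induction_on with
      | zero => simp only [map_zero, DirectSum.zero_apply, ZeroMemClass.coe_zero]
      | of k w =>
        rw [DirectSum.coeAddMonoidHom_of]
        by_cases hk : k = m
        · subst hk; rw [DirectSum.of_eq_same]
        · rw [DirectSum.of_eq_of_ne _ _ _ (Ne.symm hk)]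
          obtain ⟨v, hv⟩ := w.2
          simp only [ZeroMemClass.coe_zero, map_zero]
          exact (congrArg (comp m) hv).symm.trans (comp_incl_ne hk v)
      | add a b ha hb => simp only [map_add, DirectSum.add_apply, Submodule.coe_add, ha, hb]
    by_cases hm : n = m
    · subst hm
      rw [← key x, ← key y]
      exact congrArg (fun z : N => comp n (z : Tot hs1 F)) h
    · obtain ⟨v, hv⟩ := (x n).2
      obtain ⟨w, hw⟩ := (y n).2
      exact ((congrArg (comp m) hv).symm.trans (comp_incl_ne hm v)).trans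
        ((congrArg (comp m) hw).symm.trans (comp_incl_ne hm w)).symm
  · rintro ⟨x, hx⟩
    classical
    let z : ⨁ n, sGrade N n := ∑ n ∈ (toDS x).support,
      DirectSum.of (fun n => sGrade N n) n ⟨⟨incl n ⟨comp n x, comp_mem n x⟩, hN x hx n⟩, incl_mem_grade n _⟩
    refine ⟨z, Subtype.ext ?_⟩
    simp only [z, map_sum, DirectSum.coeAddMonoidHom_of, AddSubmonoidClass.coe_finsetSum]
    exact DirectSum.sum_support_of (toDS x)

variable [DirectSum.Decomposition (sGrade N)]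

theorem deg_mem {j : ℕ} {x : N} (h : Deg (sGrade N) ((j : ℤ) + 0) x) : x ∈ sGrade N j := by
  rcases h with ⟨i, hi, hx⟩ | rfl
  · obtain rfl : i = j := by omega
    exact hx
  · exact zero_mem _

theorem comp_smul_of_mem {k j : ℕ} {a : A} (ha : a ∈ 𝒜 k) (x : N) :
    comp (k + j) ((a • x : N) : Tot hs1 F) = act hs1 F ha (comp j (x : Tot hs1 F)) :=
  comp_smul ha j _

/-- The section `m / t` of `F`, computed on `D₊(f)`. -/
def evalAt {j : ℕ} {t : A} (ht : t ∈ 𝒜 j) (m : Tup 𝒜 s F) (f : s) {W : (Proj 𝒜).Opens}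
    (hWt : W ≤ D 𝒜 t) (hWf : W ≤ D 𝒜 f.1) : Γ(F, W) :=
  rat (pow_mem (hs1 _ f.2) j) ht hWt • res F hWf (m f)

theorem res_evalAt {j : ℕ} {t : A} (ht : t ∈ 𝒜 j) (m : Tup 𝒜 s F) (f : s) {W W' : (Proj 𝒜).Opens}
    (hWt : W ≤ D 𝒜 t) (hWf : W ≤ D 𝒜 f.1) (h : W' ≤ W) :
    res F h (evalAt (hs1 := hs1) ht m f hWt hWf) = evalAt (hs1 := hs1) ht m f (h.trans hWt) (h.trans hWf) := by
  rw [evalAt, evalAt, res_smul, resR_rat, res_res]

theorem evalAt_change {j : ℕ} {t : A} (ht : t ∈ 𝒜 j) {m : Tup 𝒜 s F} (hm : IsFam hs1 F j m) (f f' : s)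
    {W : (Proj 𝒜).Opens} (hWt : W ≤ D 𝒜 t) (hWf : W ≤ D 𝒜 f.1) (hWf' : W ≤ D 𝒜 f'.1) :
    evalAt (hs1 := hs1) ht m f' hWt hWf' = evalAt (hs1 := hs1) ht m f hWt hWf := by
  rw [evalAt, evalAt, hm.res_eq f f' hWf hWf', smul_smul, frac, rat_mul]
  exact congrArg (fun c => c • res F hWf (m f)) (rat_congr (by ring))

theorem evalAt_mul {k j : ℕ} {a b t : A} (ha : a ∈ 𝒜 k) (hb : b ∈ 𝒜 k) (ht : t ∈ 𝒜 j) (m : Tup 𝒜 s F) (f : s)
    {W : (Proj 𝒜).Opens} (hWb : W ≤ D 𝒜 b) (hWt : W ≤ D 𝒜 t) (hWf : W ≤ D 𝒜 f.1) :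
    evalAt (hs1 := hs1) (SetLike.mul_mem_graded hb ht) (act hs1 F ha m) f (le_basicOpen_mul hWb hWt) hWf =
      rat ha hb hWb • evalAt (hs1 := hs1) ht m f hWt hWf := by
  rw [evalAt, evalAt, act_apply, res_smul, resR_frac, smul_smul, smul_smul, frac, rat_mul, rat_mul]
  exact congrArg (fun c => c • res F hWf (m f)) (rat_congr (by ring))

theorem evalAt_scale {k j : ℕ} {a t : A} (ha : a ∈ 𝒜 k) (ht : t ∈ 𝒜 j) (m : Tup 𝒜 s F) (f : s)
    {W : (Proj 𝒜).Opens} (hWa : W ≤ D 𝒜 a) (hWt : W ≤ D 𝒜 t) (hWf : W ≤ D 𝒜 f.1) :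
    evalAt (hs1 := hs1) (SetLike.mul_mem_graded ha ht) (act hs1 F ha m) f (le_basicOpen_mul hWa hWt) hWf =
      evalAt (hs1 := hs1) ht m f hWt hWf := by
  rw [evalAt_mul ha ha ht m f hWa hWt hWf, rat_self, one_smul]

theorem evalAt_add {j : ℕ} {t : A} (ht : t ∈ 𝒜 j) (m m' : Tup 𝒜 s F) (f : s) {W : (Proj 𝒜).Opens}
    (hWt : W ≤ D 𝒜 t) (hWf : W ≤ D 𝒜 f.1) :
    evalAt (hs1 := hs1) ht (m + m') f hWt hWf =
      evalAt (hs1 := hs1) ht m f hWt hWf + evalAt (hs1 := hs1) ht m' f hWt hWf := by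
  simp only [evalAt, Pi.add_apply, map_add, smul_add]

theorem evalAt_congr {j l : ℕ} {t t' : A} (hjl : j = l) (e : t = t') (ht : t ∈ 𝒜 j) (ht' : t' ∈ 𝒜 l)
    {m m' : Tup 𝒜 s F} (hm : m = m') (f : s) {W : (Proj 𝒜).Opens} (hWt : W ≤ D 𝒜 t) (hWt' : W ≤ D 𝒜 t')
    (hWf : W ≤ D 𝒜 f.1) : evalAt (hs1 := hs1) ht m f hWt hWf = evalAt (hs1 := hs1) ht' m' f hWt' hWf := by
  subst hjl e hm; rfl

theorem eq_of_locally {U : (Proj 𝒜).Opens} (a b : Γ(F, U))
    (h : ∀ x ∈ U, ∃ W : (Proj 𝒜).Opens, ∃ hW : W ≤ U, x ∈ W ∧ res F hW a = res F hW b) : a = b := by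
  choose W hW hxW heq using h
  refine TopCat.Sheaf.eq_of_locally_eq' ⟨_, F.isSheaf⟩ (fun x : U => W x.1 x.2) U
    (fun x => homOfLE (hW x.1 x.2)) (fun x hx => Opens.mem_iSup.mpr ⟨⟨x, hx⟩, hxW x hx⟩) _ _
    fun x => heq x.1 x.2

/-- Equal fractions have equal values in `F`. -/
theorem evalAt_eq_of_mk_eq {j l : ℕ} {t t' : A} (ht : t ∈ 𝒜 j) (ht' : t' ∈ 𝒜 l) {x x' : N}
    (hx : x ∈ sGrade N j) (hx' : x' ∈ sGrade N l) (f f' : s) {W : (Proj 𝒜).Opens} (hWt : W ≤ D 𝒜 t)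
    (hWt' : W ≤ D 𝒜 t') (hWf : W ≤ D 𝒜 f.1) (hWf' : W ≤ D 𝒜 f'.1)
    (h : ∀ y : W, (LocalizedModule.mk x ⟨t, hWt y.2⟩ : GrTilde.LocMod 𝒜 (M := N) y.1) =
      LocalizedModule.mk x' ⟨t', hWt' y.2⟩) :
    evalAt (hs1 := hs1) ht (comp j (x : Tot hs1 F)) f hWt hWf =
      evalAt (hs1 := hs1) ht' (comp l (x' : Tot hs1 F)) f' hWt' hWf' := by
  rw [evalAt_change ht' (comp_mem l _) f f' hWt' hWf hWf']
  refine eq_of_locally _ _ fun p hp => ?_
  obtain ⟨k, v, hv, hvp, hv0⟩ := (mk_eq_mk_iff (n := (0 : ℤ)) ht ht' (hWt hp) (hWt' hp)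
    (Deg.of_mem hx (Or.inl (by simp))) (Deg.of_mem hx' (Or.inl (by simp)))).mp (h ⟨p, hp⟩)
  refine ⟨W ⊓ D 𝒜 v, inf_le_left, ⟨hp, hvp⟩, ?_⟩
  rw [res_evalAt, res_evalAt]
  set W' := W ⊓ D 𝒜 v
  have hv' : W' ≤ D 𝒜 v := inf_le_right
  have hxx : v • (t' • x) = v • (t • x') := by
    rwa [smul_sub, sub_eq_zero] at hv0
  have e : act hs1 F (SetLike.mul_mem_graded hv ht') (comp j (x : Tot hs1 F)) =
      act hs1 F (SetLike.mul_mem_graded hv ht) (comp l (x' : Tot hs1 F)) := by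
    rw [← comp_smul (SetLike.mul_mem_graded hv ht'), ← comp_smul (SetLike.mul_mem_graded hv ht)]
    rw [smul_smul, smul_smul] at hxx
    rw [show k + l + j = k + j + l by omega]
    exact congrArg (fun z : N => comp (k + j + l) (z : Tot hs1 F)) hxx
  rw [← evalAt_scale (SetLike.mul_mem_graded hv ht') ht (comp j (x : Tot hs1 F)) f
      (le_basicOpen_mul hv' (inf_le_left.trans hWt')) (inf_le_left.trans hWt) (inf_le_left.trans hWf),
    ← evalAt_scale (SetLike.mul_mem_graded hv ht) ht' (comp l (x' : Tot hs1 F)) f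
      (le_basicOpen_mul hv' (inf_le_left.trans hWt)) (inf_le_left.trans hWt') (inf_le_left.trans hWf)]
  exact evalAt_congr (by omega) (by ring) _ _ e f _ _ _

variable (N) in
/-- Sections of `Ñ`. -/
abbrev Sect (U : (Proj 𝒜).Opens) : Type u := GrTilde.sect 𝒜 (sGrade N) 0 (op U)

/-- `τ` is the image of `σ`. -/
def IsImg {U : (Proj 𝒜).Opens} (σ : Sect N U) (τ : Γ(F, U)) : Prop :=
  ∀ (W : (Proj 𝒜).Opens) (hWU : W ≤ U) (f : s) (hWf : W ≤ D 𝒜 f.1) (j : ℕ) (t : A) (ht : t ∈ 𝒜 j) (x : N)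
    (_ : x ∈ sGrade N j) (hWt : W ≤ D 𝒜 t),
    (∀ y : W, val σ ⟨y.1, hWU y.2⟩ = LocalizedModule.mk x ⟨t, hWt y.2⟩) →
      res F hWU τ = evalAt (hs1 := hs1) ht (comp j (x : Tot hs1 F)) f hWt hWf

theorem exists_rep (hcov : ∀ p : ProjectiveSpectrum 𝒜, ∃ f ∈ s, f ∉ p.asHomogeneousIdeal)
    {U : (Proj 𝒜).Opens} (σ : Sect N U) (p : U) :
    ∃ (W : (Proj 𝒜).Opens) (hWU : W ≤ U) (f : s) (_ : W ≤ D 𝒜 f.1) (j : ℕ) (t : A) (_ : t ∈ 𝒜 j) (x : N)
      (_ : x ∈ sGrade N j) (hWt : W ≤ D 𝒜 t),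
      p.1 ∈ W ∧ ∀ y : W, val σ ⟨y.1, hWU y.2⟩ = LocalizedModule.mk x ⟨t, hWt y.2⟩ := by
  obtain ⟨j, t, a, ht, ha, htp, hv⟩ := exists_local_rep σ p
  obtain ⟨f, hf, hfp⟩ := hcov p.1
  exact ⟨U ⊓ D 𝒜 t ⊓ D 𝒜 f, inf_le_left.trans inf_le_left, ⟨f, hf⟩, inf_le_right, j, t, ht, a, deg_mem ha,
    inf_le_left.trans inf_le_right, ⟨⟨p.2, htp⟩, hfp⟩, fun y => hv ⟨y.1, y.2.1.1⟩ y.2.1.2⟩

theorem existsUnique_img (hcov : ∀ p : ProjectiveSpectrum 𝒜, ∃ f ∈ s, f ∉ p.asHomogeneousIdeal)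
    {U : (Proj 𝒜).Opens} (σ : Sect N U) : ∃! τ : Γ(F, U), IsImg σ τ := by
  choose W hWU f hWf j t ht x hx hWt hpW hv using exists_rep hcov σ
  obtain ⟨τ, hτ, huniq⟩ := TopCat.Sheaf.existsUnique_gluing' ⟨_, F.isSheaf⟩ W U
    (fun p => homOfLE (hWU p)) (fun p hp => Opens.mem_iSup.mpr ⟨⟨p, hp⟩, hpW ⟨p, hp⟩⟩)
    (fun p => evalAt (hs1 := hs1) (ht p) (comp (j p) (x p : Tot hs1 F)) (f p) (hWt p) (hWf p))
    (fun p q => by
      change res F inf_le_left _ = res F inf_le_right _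
      rw [res_evalAt, res_evalAt]
      exact evalAt_eq_of_mk_eq _ _ (hx p) (hx q) _ _ _ _ _ _ fun y =>
        (hv p ⟨y.1, y.2.1⟩).symm.trans (hv q ⟨y.1, y.2.2⟩))
  refine ⟨τ, fun W' hW' f' hWf' j' t' ht' x' hx' hWt' hv' => ?_, fun τ' hτ' => huniq τ' fun p => ?_⟩
  · refine eq_of_locally _ _ fun p hp => ?_
    let q : U := ⟨p, hW' hp⟩
    refine ⟨W' ⊓ W q, inf_le_left, ⟨hp, hpW q⟩, ?_⟩
    rw [res_res, res_evalAt, ← res_res (hWU q) inf_le_right, show res F (hWU q) τ = _ from hτ q, res_evalAt]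
    exact evalAt_eq_of_mk_eq _ _ (hx q) hx' _ _ _ _ _ _ fun y =>
      (hv q ⟨y.1, y.2.2⟩).symm.trans (hv' ⟨y.1, y.2.1⟩)
  · exact hτ' (W p) (hWU p) (f p) (hWf p) (j p) (t p) (ht p) (x p) (hx p) (hWt p) (hv p)

variable (hcov : ∀ p : ProjectiveSpectrum 𝒜, ∃ f ∈ s, f ∉ p.asHomogeneousIdeal)

/-- The map on sections. -/
def img {U : (Proj 𝒜).Opens} (σ : Sect N U) : Γ(F, U) := (existsUnique_img hcov σ).choose

theorem isImg_img {U : (Proj 𝒜).Opens} (σ : Sect N U) : IsImg σ (img hcov σ) :=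
  (existsUnique_img hcov σ).choose_spec.1

include hcov in
theorem IsImg.eq {U : (Proj 𝒜).Opens} {σ : Sect N U} {τ : Γ(F, U)} (h : IsImg σ τ) : img hcov σ = τ :=
  ((existsUnique_img hcov σ).choose_spec.2 τ h).symm

theorem img_add {U : (Proj 𝒜).Opens} (σ σ' : Sect N U) : img hcov (σ + σ') = img hcov σ + img hcov σ' := by
  refine eq_of_locally _ _ fun p hp => ?_
  obtain ⟨W, hWU, f, hWf, j, t, ht, x, hx, hWt, hpW, hv⟩ := exists_rep hcov σ ⟨p, hp⟩
  obtain ⟨W', hWU', f', hWf', j', t', ht', x', hx', hWt', hpW', hv'⟩ := exists_rep hcov σ' ⟨p, hp⟩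
  refine ⟨W ⊓ W', inf_le_left.trans hWU, ⟨hpW, hpW'⟩, ?_⟩
  have hsum : t' • x + t • x' ∈ sGrade N (j + j') := add_mem
    (add_comm j' j ▸ smul_mem_of_mem (ℳ := sGrade N) ht' hx)
    (smul_mem_of_mem (ℳ := sGrade N) ht hx')
  have hle : W ⊓ W' ≤ D 𝒜 (t * t') :=
    le_basicOpen_mul (inf_le_left.trans hWt) (inf_le_right.trans hWt')
  rw [map_add, isImg_img hcov (σ + σ') (W ⊓ W') (inf_le_left.trans hWU) f (inf_le_left.trans hWf) (j + j')
    (t * t') (SetLike.mul_mem_graded ht ht') (t' • x + t • x') hsum hle (fun y => by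
      rw [val_add, hv ⟨y.1, y.2.1⟩, hv' ⟨y.1, y.2.2⟩, LocalizedModule.mk_add_mk]
      rfl),
    isImg_img hcov σ (W ⊓ W') (inf_le_left.trans hWU) f (inf_le_left.trans hWf) j t ht x hx
      (inf_le_left.trans hWt) (fun y => hv ⟨y.1, y.2.1⟩),
    isImg_img hcov σ' (W ⊓ W') (inf_le_right.trans hWU') f (inf_le_left.trans hWf) j' t' ht' x' hx'
      (inf_le_right.trans hWt') (fun y => hv' ⟨y.1, y.2.2⟩),
    Submodule.coe_add, map_add, evalAt_add,
    ← evalAt_scale ht' ht (comp j (x : Tot hs1 F)) f (inf_le_right.trans hWt') (inf_le_left.trans hWt)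
      (inf_le_left.trans hWf),
    ← evalAt_scale ht ht' (comp j' (x' : Tot hs1 F)) f (inf_le_left.trans hWt) (inf_le_right.trans hWt')
      (inf_le_left.trans hWf)]
  refine congrArg₂ (· + ·) (evalAt_congr (add_comm j j') (mul_comm t t') _ _ ?_ f _ _ _)
    (evalAt_congr rfl rfl _ _ (comp_smul_of_mem ht x') f _ _ _)
  rw [add_comm j j']
  exact comp_smul_of_mem ht' x

theorem img_smul {U : (Proj 𝒜).Opens} (r : Γ(Proj 𝒜, U)) (σ : Sect N U) :
    img hcov (HSMul.hSMul (α := Twist.O (𝒜 := 𝒜) (op U)) (β := Sect N U) r σ) = r • img hcov σ := by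
  refine eq_of_locally _ _ fun p hp => ?_
  obtain ⟨W, hWU, f, hWf, j, t, ht, x, hx, hWt, hpW, hv⟩ := exists_rep hcov σ ⟨p, hp⟩
  obtain ⟨V, hpV, iV, k, ⟨a, ha⟩, ⟨b, hb⟩, hbV, hw⟩ := (r : Twist.O (𝒜 := 𝒜) (op U)).2 ⟨p, hp⟩
  let W' : (Proj 𝒜).Opens := W ⊓ V
  have hW'b : W' ≤ D 𝒜 b := fun y hy => hbV ⟨y, hy.2⟩
  refine ⟨W', inf_le_left.trans hWU, ⟨hpW, hpV⟩, ?_⟩
  have hr : resR (inf_le_left.trans hWU : W' ≤ U) r = rat ha hb hW'b := fun_ext fun y => by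
    have h := congrArg HomogeneousLocalization.val (hw ⟨y.1, y.2.2⟩)
    exact h.trans (HomogeneousLocalization.val_mk _)
  rw [isImg_img hcov _ W' (inf_le_left.trans hWU) f (inf_le_left.trans hWf) (k + j) (b * t)
      (SetLike.mul_mem_graded hb ht) (a • x) (smul_mem_of_mem (ℳ := sGrade N) ha hx)
      (le_basicOpen_mul hW'b (inf_le_left.trans hWt)) (fun y => by
        have h := congrArg HomogeneousLocalization.val (hw ⟨y.1, y.2.2⟩)
        rw [val_smul, hv ⟨y.1, y.2.1⟩]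
        erw [h]
        rw [HomogeneousLocalization.val_mk, LocalizedModule.mk_smul_mk]
        rfl),
    res_smul, hr, isImg_img hcov σ W' (inf_le_left.trans hWU) f (inf_le_left.trans hWf) j t ht x hx
      (inf_le_left.trans hWt) (fun y => hv ⟨y.1, y.2.1⟩),
    comp_smul_of_mem ha x, evalAt_mul]

theorem img_res {U V : (Proj 𝒜).Opens} (h : V ≤ U) (σ : Sect N U) :
    img hcov (GrTilde.res 𝒜 (sGrade N) 0 (homOfLE h).op σ) = res F h (img hcov σ) := by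
  refine IsImg.eq hcov fun W hWV f hWf j t ht x hx hWt hv => ?_
  rw [res_res]
  exact isImg_img hcov σ W (hWV.trans h) f hWf j t ht x hx hWt hv

/-- The map `Ñ ⟶ F`. -/
def toF : GrTilde.tilde 𝒜 (sGrade N) 0 ⟶ F :=
  Hom.homMk (fun U => { toFun := fun σ => img hcov σ
                        map_zero' := by
                          have h := img_add hcov (0 : Sect N U) 0
                          rw [add_zero] at h
                          exact left_eq_add.mp h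
                        map_add' := img_add hcov })
    (fun U r σ => img_smul hcov r σ) (fun U V h σ => img_res hcov h σ)

theorem toF_app {U : (Proj 𝒜).Opens} (σ : Sect N U) : (toF hcov).app U σ = img hcov σ := rfl

variable [F.IsQuasicoherent]

theorem img_injective {U : (Proj 𝒜).Opens} {σ : Sect N U} (h0 : img hcov σ = 0) : σ = 0 := by
  refine sect_ext fun p => ?_
  rw [val_zero]
  obtain ⟨W, hWU, f, hWf, j, t, ht, x, hx, hWt, hpW, hv⟩ := exists_rep hcov σ p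
  rw [show val σ p = _ from hv ⟨p.1, hpW⟩]
  have hz : res F hWf (comp j (x : Tot hs1 F) f) = 0 := by
    have h := isImg_img hcov σ W hWU f hWf j t ht x hx hWt hv
    rw [h0, map_zero, evalAt] at h
    have h2 := congrArg
      (fun c => rat ht (pow_mem (hs1 _ f.2) j) (le_basicOpen_pow hWf j) • c) h.symm
    simp only [smul_zero, smul_smul] at h2
    rw [rat_mul, rat_congr (hW' := le_basicOpen_mul hWf hWf) (ha' := SetLike.mul_mem_graded (hs1 _ f.2) (hs1 _ f.2))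
      (hb' := SetLike.mul_mem_graded (hs1 _ f.2) (hs1 _ f.2)) (by ring), rat_self, one_smul] at h2
    exact h2
  obtain ⟨e, g, hg, hgp, hgW⟩ := exists_homog_basicOpen_le W p.1 hpW
  obtain ⟨L, hL⟩ := ((localizes_of_isAffineOpen F (isAffineOpen_D hs1 f)
    (frac hg (hs1 _ f.2) (le_refl (D 𝒜 f.1)))).sep).exists_of_eq (basicOpen_frac (hs1 _ f.2) hg).symm inf_le_left
      (comp j (x : Tot hs1 F) f) (by
        rw [← res_res hWf (inf_le_right.trans hgW : D 𝒜 f.1 ⊓ D 𝒜 g ≤ W), hz, map_zero])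
  rw [frac_pow] at hL
  obtain ⟨L', hL'⟩ := exists_act_eq_zero (IsFam.act (pow_mem' hg L) (comp_mem j (x : Tot hs1 F))) (f := f) hL
  rw [act_act] at hL'
  refine (mk_eq_zero_iff hx).mpr ⟨L' + L * e, f.1 ^ L' * g ^ L,
    SetLike.mul_mem_graded (pow_mem (hs1 _ f.2) L') (pow_mem' hg L), fun hh =>
      (p.1.isPrime.mem_or_mem hh).elim (fun h => hWf hpW (p.1.isPrime.mem_of_pow_mem L' h))
        (fun h => hgp (p.1.isPrime.mem_of_pow_mem L h)), ?_⟩
  have hmem : (f.1 ^ L' * g ^ L) • x ∈ sGrade N (L' + L * e + j) :=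
    smul_mem_of_mem (ℳ := sGrade N) (SetLike.mul_mem_graded (pow_mem (hs1 _ f.2) L') (pow_mem' hg L)) hx
  refine Subtype.ext ((eq_incl_of_mem hmem).trans ?_)
  refine (congrArg (incl _) (Subtype.ext ?_)).trans (map_zero _)
  exact (comp_smul_of_mem _ x).trans hL'

/-- The components of `N` at `f`. -/
def comps (f : s) : Set Γ(F, D 𝒜 f.1) :=
  Set.range fun p : ℕ × N => comp p.1 (p.2 : Tot hs1 F) f

theorem exists_eq_comp_of_mem_span {f : s} {z : Γ(F, D 𝒜 f.1)} (hN : IsHomog N)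
    (hz : z ∈ Submodule.span Γ(Proj 𝒜, D 𝒜 f.1) (comps (N := N) f)) :
    ∃ (n : ℕ) (x : N), x ∈ sGrade N n ∧ comp n (x : Tot hs1 F) f = z := by
  induction hz using Submodule.span_induction with
  | mem z hz =>
    obtain ⟨⟨n, x⟩, rfl⟩ := hz
    exact ⟨n, ⟨_, hN x.1 x.2 n⟩, incl_mem_grade n _, congrFun (comp_incl n _) f⟩
  | zero => exact ⟨0, 0, zero_mem _, congrFun (map_zero (comp (hs1 := hs1) (F := F) 0)) f⟩
  | add y z _ _ hy hz =>
    obtain ⟨n, x, hx, rfl⟩ := hy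
    obtain ⟨n', x', hx', rfl⟩ := hz
    refine ⟨n' + n, f.1 ^ n' • x + f.1 ^ n • x', add_mem
      (smul_mem_of_mem (ℳ := sGrade N) (pow_mem (hs1 _ f.2) n') hx)
      (add_comm n n' ▸ smul_mem_of_mem (ℳ := sGrade N) (pow_mem (hs1 _ f.2) n) hx'), ?_⟩
    rw [Submodule.coe_add, map_add, Pi.add_apply, comp_smul_of_mem (pow_mem (hs1 _ f.2) n'), add_comm n' n,
      comp_smul_of_mem (pow_mem (hs1 _ f.2) n), act_pow_self, act_pow_self]
  | smul r z _ hz =>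
    obtain ⟨n, x, hx, rfl⟩ := hz
    obtain ⟨k, a, ha, rfl⟩ := exists_rat (hs1 _ f.2) r
    exact ⟨k + n, a • x, smul_mem_of_mem (ℳ := sGrade N) ha hx,
      (congrFun (comp_smul_of_mem ha x) f).trans (act_apply ha _ f)⟩

theorem img_local_surjective (hN : IsHomog N)
    (hspan : ∀ f : s, Submodule.span Γ(Proj 𝒜, D 𝒜 f.1) (comps (N := N) f) = ⊤)
    {U : (Proj 𝒜).Opens} (τ : Γ(F, U)) (p : Proj 𝒜) (hp : p ∈ U) :
    ∃ (W : (Proj 𝒜).Opens) (hW : W ≤ U), p ∈ W ∧ ∃ σ : Sect N W, img hcov σ = res F hW τ := by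
  obtain ⟨f₀, hf₀, hfp⟩ := hcov p
  let f : s := ⟨f₀, hf₀⟩
  obtain ⟨e, g, hg, hgp, hgU⟩ := exists_homog_basicOpen_le (U ⊓ D 𝒜 f.1) p ⟨hp, hfp⟩
  let W : (Proj 𝒜).Opens := D 𝒜 f.1 ⊓ D 𝒜 g
  have hWU : W ≤ U := inf_le_right.trans (hgU.trans inf_le_left)
  have hWf : W ≤ D 𝒜 f.1 := inf_le_left
  have hWg : W ≤ D 𝒜 g := inf_le_right
  obtain ⟨L, z, hz⟩ := ((localizes_of_isAffineOpen F (isAffineOpen_D hs1 f)
    (frac hg (hs1 _ f.2) (le_refl (D 𝒜 f.1)))).ext').exists_of_eq (basicOpen_frac (hs1 _ f.2) hg).symm hWf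
      (res F hWU τ)
  obtain ⟨n, x, hx, rfl⟩ := exists_eq_comp_of_mem_span hN (z := z) (by rw [hspan f]; exact Submodule.mem_top)
  let d := L * e
  have ht : g ^ L * f.1 ^ n ∈ 𝒜 (d + n) := SetLike.mul_mem_graded (pow_mem' hg L) (pow_mem (hs1 _ f.2) n)
  have hfd : f.1 ^ d ∈ 𝒜 d := pow_mem (hs1 _ f.2) d
  have hWt : W ≤ D 𝒜 (g ^ L * f.1 ^ n) :=
    le_basicOpen_mul (le_basicOpen_pow hWg L) (le_basicOpen_pow hWf n)
  have hxd : f.1 ^ d • x ∈ sGrade N (d + n) := smul_mem_of_mem (ℳ := sGrade N) hfd hx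
  refine ⟨W, hWU, ⟨hfp, hgp⟩, fracSec (n := (0 : ℤ)) W ht (a := f.1 ^ d • x)
    (Deg.of_mem hxd (Or.inl (by simp))) hWt, ?_⟩
  have h := isImg_img hcov (fracSec (n := (0 : ℤ)) W ht (a := f.1 ^ d • x)
    (Deg.of_mem hxd (Or.inl (by simp))) hWt) W le_rfl f hWf (d + n) _ ht _ hxd hWt fun y => val_fracSec _ _ _ _ _
  rw [res_self] at h
  rw [h, evalAt, comp_smul_of_mem hfd x, act_pow_self, hz, smul_smul, resR_frac, frac_pow, frac, rat_mul]
  conv_rhs => rw [← one_smul Γ(Proj 𝒜, W) (res F hWU τ), ← rat_self (𝒜 := 𝒜) ht hWt]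
  exact congrArg (fun c => c • res F hWU τ) (rat_congr (by ring))

include hcov in
/-- `Ñ ≅ F` when the components of `N` span the sections. -/
theorem nonempty_iso (hN : IsHomog N)
    (hspan : ∀ f : s, Submodule.span Γ(Proj 𝒜, D 𝒜 f.1) (comps (N := N) f) = ⊤) :
    Nonempty (GrTilde.tilde 𝒜 (sGrade N) 0 ≅ F) := by
  have hmono : Mono (toF (N := N) hcov) := by
    rw [Modules.Stalk.mono_iff_app_injective]
    intro U σ σ' h
    let δ : Sect N U := (show Sect N U from σ) - (show Sect N U from σ')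
    have h' : img hcov (δ + (show Sect N U from σ')) = img hcov (show Sect N U from σ') := by
      rw [show δ + (show Sect N U from σ') = (show Sect N U from σ) from sub_add_cancel (show Sect N U from σ) (show Sect N U from σ')]
      exact h
    rw [img_add] at h'
    exact sub_eq_zero.mp (img_injective hcov (σ := δ) (add_eq_right.mp h'))
  have hepi : Epi (toF (N := N) hcov) := by
    rw [Modules.Stalk.epi_iff_stalk_surjective]
    intro p t
    obtain ⟨U, hpU, τ, rfl⟩ := F.presheaf.exists_germ_eq t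
    obtain ⟨W, hW, hpW, σ, hσ⟩ := img_local_surjective hcov hN hspan τ p hpU
    refine ⟨(GrTilde.tilde 𝒜 (sGrade N) 0).presheaf.germ W p hpW σ, ?_⟩
    rw [Modules.Stalk.stalkFunctor_map_germ]
    refine (congrArg (F.presheaf.germ W p hpW) hσ).trans ?_
    exact TopCat.Presheaf.germ_res_apply _ _ _ _ _
  exact ⟨@asIso _ _ _ _ (toF hcov) (isIso_of_mono_of_epi _)⟩

end Groth.Agent.Lib.ProjFam.Assoc
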