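import Groth.Agent.Lib.ProjFam.Rat

/-!
# Compatible families `(u_f)` of degree `n`: `u_g = (f/g)^n u_f` on `D₊(f) ⊓ D₊(g)`

These model the elements of degree `n` of the graded module attached to a quasi-coherent module on
`Proj` when finitely many elements `f` of degree one cover it.
-/

noncomputable section

universe u

open CategoryTheory AlgebraicGeometry TopologicalSpace Opposite

namespace Groth.Agent.Lib.ProjFam.Fam

open Groth.Agent.Lib.QCoh.Localizing Groth.Agent.Lib.ProjTilde Rat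

variable {R A : Type u} [CommRing R] [CommRing A] [Algebra R A] {𝒜 : ℕ → Submodule R A} [GradedAlgebra 𝒜]

variable (𝒜) in
/-- `D₊(f)`. -/
abbrev D (f : A) : (Proj 𝒜).Opens := Proj.basicOpen 𝒜 f

/-- `(a/b)` on `D₊(f)`. -/
def frac {k : ℕ} {a f : A} (ha : a ∈ 𝒜 k) (hf : f ∈ 𝒜 1) {W : (Proj 𝒜).Opens} (hW : W ≤ D 𝒜 f) :
    Γ(Proj 𝒜, W) :=
  rat ha (pow_mem hf k) (le_basicOpen_pow hW k)

theorem resR_frac {k : ℕ} {a f : A} (ha : a ∈ 𝒜 k) (hf : f ∈ 𝒜 1) {W W' : (Proj 𝒜).Opens} (hW : W ≤ D 𝒜 f)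
    (h : W' ≤ W) : resR h (frac ha hf hW) = frac ha hf (h.trans hW) := rfl

theorem frac_self {f : A} (hf : f ∈ 𝒜 1) (k : ℕ) {W : (Proj 𝒜).Opens} (hW : W ≤ D 𝒜 f) :
    frac (pow_mem hf k) hf hW = 1 :=
  rat_self _ _

theorem frac_one {f : A} (hf : f ∈ 𝒜 1) {W : (Proj 𝒜).Opens} (hW : W ≤ D 𝒜 f) :
    frac (k := 0) SetLike.GradedOne.one_mem hf hW = 1 := by
  rw [← frac_self hf 0 hW]
  exact rat_congr (by simp)

theorem frac_mul {k l : ℕ} {a b f : A} (ha : a ∈ 𝒜 k) (hb : b ∈ 𝒜 l) (hf : f ∈ 𝒜 1) {W : (Proj 𝒜).Opens}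
    (hW : W ≤ D 𝒜 f) : frac ha hf hW * frac hb hf hW = frac (SetLike.mul_mem_graded ha hb) hf hW := by
  rw [frac, frac, rat_mul]
  exact rat_congr (by rw [pow_add])

/-- Change of the denominator: `a/g^k = (f/g)^k (a/f^k)`. -/
theorem frac_change {k : ℕ} {a f g : A} (ha : a ∈ 𝒜 k) (hf : f ∈ 𝒜 1) (hg : g ∈ 𝒜 1)
    {W : (Proj 𝒜).Opens} (hWf : W ≤ D 𝒜 f) (hWg : W ≤ D 𝒜 g) :
    frac ha hg hWg = frac (pow_mem hf k) hg hWg * frac ha hf hWf := by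
  simp only [frac]; rw [rat_mul]
  exact rat_congr (by ring)

theorem frac_pow {k : ℕ} {a f : A} (ha : a ∈ 𝒜 k) (hf : f ∈ 𝒜 1) {W : (Proj 𝒜).Opens} (hW : W ≤ D 𝒜 f)
    (n : ℕ) : frac ha hf hW ^ n = frac (pow_mem' ha n) hf hW := by
  rw [frac, rat_pow]
  exact rat_congr (by rw [← pow_mul, mul_comm k n])

theorem cast_frac {k l : ℕ} (h : k = l) {a f : A} (ha : a ∈ 𝒜 k) (hf : f ∈ 𝒜 1) {W : (Proj 𝒜).Opens}
    (hW : W ≤ D 𝒜 f) : frac ha hf hW = frac (show a ∈ 𝒜 l from h ▸ ha) hf hW := by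
  subst h; rfl

variable {s : Finset A} (hs1 : ∀ f ∈ s, f ∈ 𝒜 1) (F : (Proj 𝒜).Modules)

/-- Families indexed by the chosen elements of degree one. -/
abbrev Tup (𝒜 : ℕ → Submodule R A) [GradedAlgebra 𝒜] (s : Finset A) (F : (Proj 𝒜).Modules) : Type u :=
  ∀ f : s, Γ(F, D 𝒜 f.1)

/-- Degree-`n` compatibility. -/
def IsFam (n : ℕ) (v : Tup 𝒜 s F) : Prop :=
  ∀ f g : s, res F (inf_le_right : D 𝒜 f.1 ⊓ D 𝒜 g.1 ≤ D 𝒜 g.1) (v g) =
    frac (pow_mem (hs1 _ f.2) n) (hs1 _ g.2) (inf_le_right : D 𝒜 f.1 ⊓ D 𝒜 g.1 ≤ D 𝒜 g.1) •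
      res F (inf_le_left : D 𝒜 f.1 ⊓ D 𝒜 g.1 ≤ D 𝒜 f.1) (v f)

/-- The families of degree `n`. -/
def fam (n : ℕ) : AddSubgroup (Tup 𝒜 s F) where
  carrier := {v | IsFam hs1 F n v}
  zero_mem' := fun f g => by simp only [Pi.zero_apply, map_zero, smul_zero]
  add_mem' := fun {v w} hv hw f g => by simp only [Pi.add_apply, map_add, smul_add, hv f g, hw f g]
  neg_mem' := fun {v} hv f g => by simp only [Pi.neg_apply, map_neg, smul_neg, hv f g]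

variable {hs1 F}

/-- The family relation on an arbitrary open. -/
theorem IsFam.res_eq {n : ℕ} {v : Tup 𝒜 s F} (hv : IsFam hs1 F n v) (f g : s) {W : (Proj 𝒜).Opens}
    (hWf : W ≤ D 𝒜 f.1) (hWg : W ≤ D 𝒜 g.1) :
    res F hWg (v g) = frac (pow_mem (hs1 _ f.2) n) (hs1 _ g.2) hWg • res F hWf (v f) := by
  have h := congrArg (res F (le_inf hWf hWg)) (hv f g)
  rwa [res_smul, resR_frac, res_res, res_res] at h

variable (hs1 F) in
/-- Multiplication by `a ∈ 𝒜 k`. -/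
def act {k : ℕ} {a : A} (ha : a ∈ 𝒜 k) : Tup 𝒜 s F →+ Tup 𝒜 s F where
  toFun v f := frac ha (hs1 _ f.2) (le_refl (D 𝒜 f.1)) • v f
  map_zero' := funext fun f => smul_zero _
  map_add' v w := funext fun f => smul_add _ _ _

theorem act_apply {k : ℕ} {a : A} (ha : a ∈ 𝒜 k) (v : Tup 𝒜 s F) (f : s) :
    act hs1 F ha v f = frac ha (hs1 _ f.2) (le_refl (D 𝒜 f.1)) • v f := rfl

theorem IsFam.act {k n : ℕ} {a : A} (ha : a ∈ 𝒜 k) {v : Tup 𝒜 s F} (hv : IsFam hs1 F n v) :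
    IsFam hs1 F (k + n) (act hs1 F ha v) := fun f g => by
  rw [act_apply, act_apply, res_smul, res_smul, hv f g, smul_smul, smul_smul, resR_frac, resR_frac,
    frac_change ha (hs1 _ f.2) (hs1 _ g.2) inf_le_left inf_le_right, mul_right_comm, frac_mul]
  congr 2
  exact rat_congr (by ring)

theorem act_act {k l : ℕ} {a b : A} (ha : a ∈ 𝒜 k) (hb : b ∈ 𝒜 l) (v : Tup 𝒜 s F) :
    act hs1 F ha (act hs1 F hb v) = act hs1 F (SetLike.mul_mem_graded ha hb) v := funext fun f => by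
  rw [act_apply, act_apply, act_apply, smul_smul, frac_mul]

theorem act_one (v : Tup 𝒜 s F) : act hs1 F (SetLike.GradedOne.one_mem : (1 : A) ∈ 𝒜 0) v = v :=
  funext fun f => by rw [act_apply, frac_one, one_smul]

theorem act_add {k : ℕ} {a b : A} (ha : a ∈ 𝒜 k) (hb : b ∈ 𝒜 k) (v : Tup 𝒜 s F) :
    act hs1 F (add_mem ha hb) v = act hs1 F ha v + act hs1 F hb v := funext fun f => by
  rw [Pi.add_apply, act_apply, act_apply, act_apply, ← add_smul]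
  exact congrArg (fun z => z • v f) (rat_add ha hb _ _)

theorem act_zero {k : ℕ} (v : Tup 𝒜 s F) : act hs1 F (zero_mem (𝒜 k)) v = 0 := funext fun f => by
  rw [Pi.zero_apply, act_apply]
  exact (congrArg (fun z => z • v f) (rat_zero (𝒜 := 𝒜) _ _)).trans (zero_smul _ _)

theorem act_pow_self (f : s) (k : ℕ) (v : Tup 𝒜 s F) : act hs1 F (pow_mem (hs1 _ f.2) k) v f = v f := by
  rw [act_apply, frac_self, one_smul]

variable (hs1) in
include hs1 in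
theorem isAffineOpen_D (f : s) : IsAffineOpen (D 𝒜 f.1) :=
  Proj.isAffineOpen_basicOpen 𝒜 f.1 (hs1 _ f.2) one_pos

variable (hs1) in
include hs1 in
theorem isAffineOpen_D_inf (f g : s) : IsAffineOpen (D 𝒜 f.1 ⊓ D 𝒜 g.1) := by
  rw [D, D, ← Proj.basicOpen_mul]
  exact Proj.isAffineOpen_basicOpen 𝒜 _ (SetLike.mul_mem_graded (hs1 _ f.2) (hs1 _ g.2)) (by norm_num)

theorem basicOpen_frac {f : A} (hf : f ∈ 𝒜 1) {k : ℕ} {a : A} (ha : a ∈ 𝒜 k) :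
    (Proj 𝒜).basicOpen (frac ha hf (le_refl (D 𝒜 f))) = D 𝒜 f ⊓ D 𝒜 a :=
  (basicOpen_rat hf ha).trans (Proj.basicOpen_mul 𝒜 f a)

variable [F.IsQuasicoherent]

/-- A family whose component at `f` vanishes is killed by a power of `f`. -/
theorem exists_act_eq_zero {n : ℕ} {v : Tup 𝒜 s F} (hv : IsFam hs1 F n v) {f : s} (h0 : v f = 0) :
    ∃ L : ℕ, act hs1 F (pow_mem (hs1 _ f.2) L) v = 0 := by
  have key : ∀ g : s, ∃ L : ℕ,
      frac (k := 1) (hs1 _ f.2) (hs1 _ g.2) (le_refl (D 𝒜 g.1)) ^ L • v g = 0 := fun g => by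
    refine ((localizes_of_isAffineOpen F (isAffineOpen_D hs1 g) _).sep).exists_of_eq
      (basicOpen_frac (hs1 _ g.2) (hs1 _ f.2)).symm inf_le_left (v g) ?_
    rw [hv.res_eq f g inf_le_right inf_le_left, h0, map_zero, smul_zero]
  choose L hL using key
  obtain ⟨L₀, hL₀⟩ : ∃ L₀, ∀ g, L g ≤ L₀ := ⟨Finset.univ.sup L, fun g => Finset.le_sup (Finset.mem_univ g)⟩
  refine ⟨L₀, funext fun g => ?_⟩
  have h1 : frac (k := 1) (hs1 _ f.2) (hs1 _ g.2) (le_refl (D 𝒜 g.1)) ^ L₀ • v g = 0 := by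
    simpa using pow_smul_eq_of_le (hL₀ g) (t' := 0) (by simpa using hL g)
  rw [frac_pow] at h1
  rw [act_apply, Pi.zero_apply]
  refine Eq.trans ?_ h1
  exact congrArg (fun z => z • v g) (rat_congr (by simp))

/-- A section over `D₊(f)` is the component of a family. -/
theorem exists_fam (f : s) (y : Γ(F, D 𝒜 f.1)) :
    ∃ (n : ℕ) (v : Tup 𝒜 s F), IsFam hs1 F n v ∧ v f = y := by
  let φ : ∀ g : s, Γ(Proj 𝒜, D 𝒜 g.1) := fun g => frac (k := 1) (hs1 _ f.2) (hs1 _ g.2) (le_refl (D 𝒜 g.1))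
  have key : ∀ g : s, ∃ (N : ℕ) (z : Γ(F, D 𝒜 g.1)),
      res F (inf_le_left : D 𝒜 g.1 ⊓ D 𝒜 f.1 ≤ D 𝒜 g.1) z =
        resR (inf_le_left : D 𝒜 g.1 ⊓ D 𝒜 f.1 ≤ D 𝒜 g.1) (φ g) ^ N • res F inf_le_right y := fun g =>
    ((localizes_of_isAffineOpen F (isAffineOpen_D hs1 g) (φ g)).ext').exists_of_eq
      (basicOpen_frac (hs1 _ g.2) (hs1 _ f.2)).symm inf_le_left _
  choose N₀ z₀ hz₀ using key
  obtain ⟨N, hN⟩ : ∃ N, ∀ g, N₀ g ≤ N := ⟨Finset.univ.sup N₀, fun g => Finset.le_sup (Finset.mem_univ g)⟩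
  obtain ⟨z, hz⟩ : ∃ z : Tup 𝒜 s F, ∀ (g : s) {W : (Proj 𝒜).Opens} (hg : W ≤ D 𝒜 g.1) (hf : W ≤ D 𝒜 f.1),
      res F hg (z g) = frac (pow_mem (hs1 _ f.2) N) (hs1 _ g.2) hg • res F hf y := by
    refine ⟨fun g => φ g ^ (N - N₀ g) • z₀ g, fun g W hg hf => ?_⟩
    have h := congrArg (res F (le_inf hg hf)) (hz₀ g)
    rw [res_smul, map_pow, res_res, res_res, resR_resR] at h
    beta_reduce
    rw [res_smul, map_pow, h, smul_smul, ← pow_add, Nat.sub_add_cancel (hN g)]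
    refine congrArg (fun c => c • res F hf y) ?_
    rw [resR_frac, frac_pow]
    exact rat_congr (by rw [mul_one])
  -- separation on the overlaps
  have hd : ∀ p : s × s, ∃ L : ℕ,
      frac (k := 1) (hs1 _ f.2) (hs1 _ p.2.2) (inf_le_right : D 𝒜 p.1.1 ⊓ D 𝒜 p.2.1 ≤ D 𝒜 p.2.1) ^ L •
          res F (inf_le_right : D 𝒜 p.1.1 ⊓ D 𝒜 p.2.1 ≤ D 𝒜 p.2.1) (z p.2) =
      frac (k := 1) (hs1 _ f.2) (hs1 _ p.2.2) (inf_le_right : D 𝒜 p.1.1 ⊓ D 𝒜 p.2.1 ≤ D 𝒜 p.2.1) ^ L •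
        (frac (pow_mem (hs1 _ p.1.2) N) (hs1 _ p.2.2) (inf_le_right : D 𝒜 p.1.1 ⊓ D 𝒜 p.2.1 ≤ D 𝒜 p.2.1) •
          res F (inf_le_left : D 𝒜 p.1.1 ⊓ D 𝒜 p.2.1 ≤ D 𝒜 p.1.1) (z p.1)) := by
    rintro ⟨g, g'⟩
    refine (localizes_of_isAffineOpen F (isAffineOpen_D_inf hs1 g g') _).sep.exists_pow_smul_eq ?_
    have hle : (Proj 𝒜).basicOpen
        (frac (k := 1) (hs1 _ f.2) (hs1 _ g'.2) (inf_le_right : D 𝒜 g.1 ⊓ D 𝒜 g'.1 ≤ D 𝒜 g'.1)) ≤
          D 𝒜 f.1 := by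
      rw [← resR_frac (hs1 _ f.2) (hs1 _ g'.2) (le_refl (D 𝒜 g'.1)) inf_le_right]
      exact (basicOpen_le_of_resR _ _).trans ((basicOpen_frac (hs1 _ g'.2) (hs1 _ f.2)).trans_le inf_le_right)
    rw [res_smul, resR_frac, res_res, res_res, hz g _ hle, hz g' _ hle, smul_smul]
    refine congrArg (fun c => c • res F hle y) ?_
    exact frac_change _ (hs1 _ g.2) (hs1 _ g'.2) _ _
  choose L₁ hL₁ using hd
  obtain ⟨L, hL⟩ : ∃ L, ∀ p, L₁ p ≤ L := ⟨Finset.univ.sup L₁, fun p => Finset.le_sup (Finset.mem_univ p)⟩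
  refine ⟨L + N, act hs1 F (pow_mem (hs1 _ f.2) L) z, fun g g' => ?_, ?_⟩
  · have h := pow_smul_eq_of_le (hL (g, g')) (hL₁ (g, g'))
    rw [frac_pow, smul_smul] at h
    rw [act_apply, act_apply, res_smul, res_smul, smul_smul, resR_frac, resR_frac]
    refine Eq.trans ?_ (h.trans ?_)
    · exact congrArg (fun c => c • res F inf_le_right (z g')) (rat_congr (by rw [mul_one]))
    · refine congrArg (fun c => c • res F inf_le_left (z g)) ?_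
      simp only [frac]; rw [rat_mul, rat_mul]
      exact rat_congr (by ring)
  · rw [act_pow_self]
    have h := hz f (le_refl (D 𝒜 f.1)) le_rfl
    rwa [res_self, res_self, frac_self, one_smul] at h

end Groth.Agent.Lib.ProjFam.Fam
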