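import Groth.Agent.Lib.ProjFam.Assoc
import Groth.Agent.Lib.CohBasics.Affine
import Groth.Prelude.Def_CohB1

/-!
# Quasi-coherent (finite type) modules on `Proj` are associated to (finitely generated) graded modules
-/

noncomputable section

universe u

open CategoryTheory AlgebraicGeometry TopologicalSpace Opposite DirectSum

namespace Groth.Agent.Lib.ProjFam.Main

open Groth.Agent.Lib.QCoh.Localizing Groth.Agent.Lib.ProjTilde Rat Fam Total Assoc

variable {R A : Type u} [CommRing R] [CommRing A] [Algebra R A] {𝒜 : ℕ → Submodule R A} [GradedAlgebra 𝒜]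
variable {s : Finset A}

theorem cover_of_span (hs : (HomogeneousIdeal.irrelevant 𝒜).toIdeal = Ideal.span (s : Set A))
    (p : ProjectiveSpectrum 𝒜) : ∃ f ∈ s, f ∉ p.asHomogeneousIdeal := by
  by_contra h
  push Not at h
  refine p.not_irrelevant_le ?_
  change (HomogeneousIdeal.irrelevant 𝒜).toIdeal ≤ p.asHomogeneousIdeal.toIdeal
  rw [hs, Ideal.span_le]
  exact h

variable {hs1 : ∀ f ∈ s, f ∈ 𝒜 1} {F : (Proj 𝒜).Modules}

/-- The submodule generated by homogeneous families is homogeneous. -/
theorem isHomog_span {ι : Type*} (n : ι → ℕ) (v : ∀ i, fam hs1 F (n i)) :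
    IsHomog (Submodule.span A (Set.range fun i => incl (n i) (v i))) := by
  classical
  set N := Submodule.span A (Set.range fun i => incl (n i) (v i)) with hN
  suffices ∀ x ∈ N, ∀ (a : A) (m : ℕ), incl m ⟨comp m (a • x), comp_mem m _⟩ ∈ N by
    intro x hx m
    simpa using this x hx 1 m
  intro x hx
  induction hx using Submodule.span_induction with
  | mem x hx =>
    obtain ⟨i, rfl⟩ := hx
    intro a
    induction a using DirectSum.Decomposition.inductionOn 𝒜 with
    | zero =>
      intro m
      refine (congrArg (· ∈ N) ?_).mpr N.zero_mem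
      exact (congrArg (incl m) (Subtype.ext (by simp))).trans (map_zero _)
    | @homogeneous k a =>
      intro m
      have hsm : (a : A) • incl (n i) (v i) ∈ N :=
        N.smul_mem _ (Submodule.subset_span ⟨i, rfl⟩)
      rw [smul_incl a.2] at hsm
      by_cases h : k + n i = m
      · subst h
        refine (congrArg (· ∈ N) (incl_congr rfl ?_)).mpr hsm
        change comp _ _ = _
        rw [smul_incl a.2, comp_incl]
      · refine (congrArg (· ∈ N) ?_).mpr N.zero_mem
        refine (congrArg (incl m) (Subtype.ext ?_)).trans (map_zero _)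
        change comp m _ = 0
        rw [smul_incl a.2, comp_incl_ne h]
    | add a b ha hb =>
      intro m
      refine (congrArg (· ∈ N) ?_).mpr (N.add_mem (ha m) (hb m))
      rw [← map_add]
      refine congrArg (incl m) (Subtype.ext ?_)
      change comp m _ = comp m _ + comp m _
      rw [add_smul, map_add]
  | zero =>
    intro a m
    refine (congrArg (· ∈ N) ?_).mpr N.zero_mem
    exact (congrArg (incl m) (Subtype.ext (by simp))).trans (map_zero _)
  | add x y _ _ hx hy =>
    intro a m
    refine (congrArg (· ∈ N) ?_).mpr (N.add_mem (hx a m) (hy a m))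
    rw [← map_add]
    refine congrArg (incl m) (Subtype.ext ?_)
    change comp m _ = comp m _ + comp m _
    rw [smul_add, map_add]
  | smul b x _ hx =>
    intro a m
    refine (congrArg (· ∈ N) ?_).mpr (hx (a * b) m)
    exact incl_congr rfl (by simp [mul_smul])

theorem isHomog_top : IsHomog (⊤ : Submodule A (Tot hs1 F)) := fun _ _ _ => trivial

theorem span_comps_top [F.IsQuasicoherent] (f : s) :
    Submodule.span Γ(Proj 𝒜, D 𝒜 f.1) (comps (N := (⊤ : Submodule A (Tot hs1 F))) f) = ⊤ := by
  refine eq_top_iff.mpr fun y _ => ?_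
  obtain ⟨n, v, hv, rfl⟩ := exists_fam (hs1 := hs1) f y
  exact Submodule.subset_span ⟨(n, ⟨incl n ⟨v, hv⟩, trivial⟩), congrFun (comp_incl n _) f⟩

variable (hs1) in
/-- Finitely many homogeneous families whose components generate all sections over the `D₊(f)`. -/
theorem exists_gens [F.IsQuasicoherent] (hFT : CohB1.IsFT F) :
    ∃ (ι : Type u) (_ : Finite ι) (n : ι → ℕ) (v : ∀ i, fam hs1 F (n i)),
      ∀ f : s, Submodule.span Γ(Proj 𝒜, D 𝒜 f.1) (Set.range fun i => (v i).1 f) = ⊤ := by
  haveI : SheafOfModules.IsFiniteType (R := (Proj 𝒜).ringCatSheaf) F := hFT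
  choose S hS using fun f : s =>
    Module.finite_def.1 (CohBasics.Affine.finite_sections (M := F) (isAffineOpen_D hs1 f))
  choose n v hv hvy using fun i : Σ f : s, S f => exists_fam (hs1 := hs1) i.1 i.2.1
  refine ⟨Σ f : s, S f, inferInstance, n, fun i => ⟨v i, hv i⟩, fun f => ?_⟩
  rw [eq_top_iff, ← hS f, Submodule.span_le]
  exact fun y hy => Submodule.subset_span ⟨⟨f, y, hy⟩, hvy ⟨f, y, hy⟩⟩

end Groth.Agent.Lib.ProjFam.Main
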