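import Groth.Agent.Lib.ProjFam.Main
import Groth.Agent.Lib.ProjTilde.Tensor
import Groth.Prelude.Def_FlatMod2

/-!
# Quotients of sums of twists
-/

noncomputable section

universe u

open CategoryTheory CategoryTheory.Limits AlgebraicGeometry TopologicalSpace Opposite DirectSum

namespace Groth.Agent.Lib.ProjFam.Quot

open Groth.Agent.Lib.QCoh.Localizing Groth.Agent.Lib.ProjTilde Groth.Agent.Lib.ProjTilde.Frac
  Groth.Agent.Lib.ProjTilde.Basic Groth.Agent.Lib.ProjTilde.Tensor

variable {R A : Type u} [CommRing R] [CommRing A] [Algebra R A] {𝒜 : ℕ → Submodule R A} [GradedAlgebra 𝒜]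
variable {M : Type u} [AddCommGroup M] [Module R M] [Module A M] [IsScalarTower R A M]
variable (ℳ : ℕ → Submodule R M) [DirectSum.Decomposition ℳ] [SetLike.GradedSMul 𝒜 ℳ]

/-- Multiplication by a homogeneous element. -/
def mulSect {d m l : ℤ} {x : M} (hx : Deg ℳ d x) (h : m + d = l) {U : (Proj 𝒜).Opens}
    (σ : GrTilde.sect 𝒜 𝒜 m (op U)) : GrTilde.sect 𝒜 ℳ l (op U) :=
  secOfRep (fun y => (val σ y : Twist.Loc 𝒜 y.1) • LocalizedModule.mk x 1) fun y => by
    obtain ⟨j, t, a, ht, ha, hty, hσ⟩ := exists_local_rep σ y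
    refine ⟨j, t, a • x, ht, (deg_smul_deg ha hx).congr (by omega), hty, fun z hz => ?_⟩
    refine (congrArg (fun q : Twist.Loc 𝒜 z.1 => q • (LocalizedModule.mk x 1 : GrTilde.LocMod 𝒜 (M := M) z.1))
      (hσ z hz)).trans ?_
    exact (LocalizedModule.mk_smul_mk _ _ _ _).trans (congrArg _ (mul_one _))

theorem val_mulSect {d m l : ℤ} {x : M} (hx : Deg ℳ d x) (h : m + d = l) {U : (Proj 𝒜).Opens}
    (σ : GrTilde.sect 𝒜 𝒜 m (op U)) (y : U) :
    val (mulSect ℳ hx h σ) y = (val σ y : Twist.Loc 𝒜 y.1) • LocalizedModule.mk x 1 := rfl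

/-- Multiplication by a homogeneous element, as a morphism. -/
def mulHom {d m l : ℤ} {x : M} (hx : Deg ℳ d x) (h : m + d = l) :
    GrTilde.tilde 𝒜 𝒜 m ⟶ GrTilde.tilde 𝒜 ℳ l :=
  Hom.homMk (fun U =>
    { toFun := fun σ => mulSect ℳ hx h (U := U) σ
      map_zero' := sect_ext (U := U) fun y =>
        zero_smul (Twist.Loc 𝒜 y.1) (LocalizedModule.mk x 1 : GrTilde.LocMod 𝒜 (M := M) y.1)
      map_add' := fun σ τ => sect_ext (U := U) fun y =>
        add_smul (val (U := U) σ y : Twist.Loc 𝒜 y.1) (val (U := U) τ y)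
          (LocalizedModule.mk x 1 : GrTilde.LocMod 𝒜 (M := M) y.1) })
    (fun U r σ => sect_ext (U := U) fun y =>
      mul_smul (r.1 y).val (val (U := U) σ y : Twist.Loc 𝒜 y.1)
        (LocalizedModule.mk x 1 : GrTilde.LocMod 𝒜 (M := M) y.1))
    (fun U V h' σ => sect_ext (U := V) fun y => rfl)

theorem mulHom_app {d m l : ℤ} {x : M} (hx : Deg ℳ d x) (h : m + d = l) (U : (Proj 𝒜).Opens)
    (σ : GrTilde.sect 𝒜 𝒜 m (op U)) :
    (mulHom (𝒜 := 𝒜) ℳ hx h).app U σ = mulSect (𝒜 := 𝒜) ℳ hx h σ := rfl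

theorem epi_desc_mulHom {n : ℕ} {m l : ℤ} (h : m + n = l) {k : ℕ} (x : Fin k → M) (hx : ∀ i, Deg ℳ n (x i))
    (hgen : ∀ (p : ProjectiveSpectrum 𝒜) (j : ℕ) (a : M), a ∈ ℳ j →
      ∃ (e : ℕ) (g : A), g ∈ 𝒜 e ∧ g ∉ p.asHomogeneousIdeal ∧ g • a ∈ Submodule.span A (Set.range x)) :
    Epi (Sigma.desc fun i => mulHom ℳ (hx i) h :
      (∐ fun _ : Fin k => GrTilde.tilde 𝒜 𝒜 m) ⟶ GrTilde.tilde 𝒜 ℳ l) := by
  classical
  refine (Modules.Stalk.epi_iff_stalk_surjective _).mpr fun p q => ?_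
  obtain ⟨U, hpU, σ, rfl⟩ := (GrTilde.tilde 𝒜 ℳ l).presheaf.exists_germ_eq q
  obtain ⟨j, t, a, ht, ha, htp, hσ⟩ := exists_local_rep (U := U) σ ⟨p, hpU⟩
  obtain ⟨i₀, hi₀, hi⟩ := ha.exists_mem
  obtain ⟨e, g, hg, hgp, hspan⟩ := hgen p i₀ a hi₀
  obtain ⟨c, hc⟩ := Submodule.mem_span_range_iff_exists_fun A |>.mp hspan
  let W : (Proj 𝒜).Opens := U ⊓ Proj.basicOpen 𝒜 (g * t)
  have hWU : W ≤ U := inf_le_left
  have hW : W ≤ Proj.basicOpen 𝒜 (g * t) := inf_le_right
  have hpW : p ∈ W := ⟨hpU, fun hh => (p.isPrime.mem_or_mem hh).elim hgp htp⟩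
  have hga : Deg ℳ ((e + j : ℕ) + l) (g • a) := (ha.smul hg).congr (by push_cast; ring)
  let δ : ℤ := (e + j : ℕ) + l - n
  let c' : Fin k → A := fun i => if 0 ≤ δ then (decompose 𝒜 (c i) δ.toNat : A) else 0
  have hc' : g • a = ∑ i, c' i • x i := by
    rcases hga with ⟨D', hD', hmem⟩ | h0
    · by_cases hδ : 0 ≤ δ
      · have key : ∀ i, (decompose ℳ (c i • x i) D' : M) = c' i • x i := fun i => by
          rcases hx i with ⟨n', hn', hxi⟩ | h0
          · have hD'' : D' = δ.toNat + n' := by omega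
            rw [hD'']; simp only [c', if_pos hδ]
            exact decompose_smul_coe (𝒜 := 𝒜) (c i) hxi _
          · rw [h0, smul_zero, decompose_zero, smul_zero]; rfl
        have h1 := decompose_of_mem_same ℳ hmem
        rw [← hc, decompose_sum, DFinsupp.finsetSum_apply, AddSubmonoidClass.coe_finsetSum,
          Finset.sum_congr rfl fun i _ => key i] at h1
        rw [← hc]
        exact h1.symm
      · have key : ∀ i, (decompose ℳ (c i • x i) D' : M) = 0 := fun i => by
          rcases hx i with ⟨n', hn', hxi⟩ | h0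
          · have hlt : D' < n' := by omega
            conv_lhs => rw [← sum_support_decompose 𝒜 (c i), Finset.sum_smul, decompose_sum,
              DFinsupp.finsetSum_apply, AddSubmonoidClass.coe_finsetSum]
            refine Finset.sum_eq_zero fun z _ => ?_
            rw [decompose_of_mem_ne ℳ (smul_mem_of_mem (SetLike.coe_mem _) hxi) (by omega)]
          · rw [h0, smul_zero, decompose_zero]; rfl
        have h1 := decompose_of_mem_same ℳ hmem
        rw [← hc, decompose_sum, DFinsupp.finsetSum_apply, AddSubmonoidClass.coe_finsetSum,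
          Finset.sum_congr rfl fun i _ => key i, Finset.sum_const_zero] at h1
        simp only [c', if_neg hδ, zero_smul, Finset.sum_const_zero]
        rw [← hc]
        exact h1.symm
    · rw [h0]
      by_cases hδ : 0 ≤ δ
      · have key : ∀ i, (decompose ℳ (c i • x i) (δ.toNat + n) : M) = c' i • x i := fun i => by
          rcases hx i with ⟨n', hn', hxi⟩ | h0
          · obtain rfl : n' = n := by omega
            simp only [c', if_pos hδ]
            exact decompose_smul_coe (𝒜 := 𝒜) (c i) hxi _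
          · rw [h0, smul_zero, decompose_zero, smul_zero]; rfl
        have h1 : (decompose ℳ (∑ i, c i • x i) (δ.toNat + n) : M) = 0 := by
          rw [hc, h0, decompose_zero]; rfl
        rw [decompose_sum, DFinsupp.finsetSum_apply, AddSubmonoidClass.coe_finsetSum,
          Finset.sum_congr rfl fun i _ => key i] at h1
        exact h1.symm
      · simp only [c', if_neg hδ, zero_smul, Finset.sum_const_zero]
  have hc'deg : ∀ i, Deg 𝒜 ((e + j : ℕ) + m) (c' i) := fun i => by
    by_cases hδ : 0 ≤ δ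
    · exact Or.inl ⟨δ.toNat, by omega, by simp only [c', if_pos hδ]; exact SetLike.coe_mem _⟩
    · exact Or.inr (by simp only [c', if_neg hδ])
  have hgt : g * t ∈ 𝒜 (e + j) := SetLike.mul_mem_graded hg ht
  let τ : Fin k → Γ(GrTilde.tilde 𝒜 𝒜 m, W) := fun i => fracSec W hgt (hc'deg i) hW
  let z : Γ(∐ fun _ : Fin k => GrTilde.tilde 𝒜 𝒜 m, W) :=
    ∑ i, (Sigma.ι (fun _ : Fin k => GrTilde.tilde 𝒜 𝒜 m) i).app W (τ i)
  refine ⟨(∐ fun _ : Fin k => GrTilde.tilde 𝒜 𝒜 m).presheaf.germ W p hpW z, ?_⟩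
  rw [Modules.Stalk.stalkFunctor_map_germ]
  have key : (Sigma.desc fun i => mulHom ℳ (hx i) h).app W z =
      GrTilde.res 𝒜 ℳ l (homOfLE hWU).op σ := by
    have h1 : (Sigma.desc fun i => mulHom ℳ (hx i) h).app W z = ∑ i, mulSect ℳ (hx i) h (U := W) (τ i) := by
      simp only [z, map_sum]
      refine Finset.sum_congr rfl fun i _ => ?_
      change ((Sigma.ι (fun _ : Fin k => GrTilde.tilde 𝒜 𝒜 m) i) ≫ Sigma.desc fun i => mulHom ℳ (hx i) h).app W (τ i) = _
      rw [colimit.ι_desc]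
      rfl
    rw [h1]
    refine sect_ext (U := W) fun y => ?_
    have hy : g * t ∉ y.1.asHomogeneousIdeal := hW y.2
    have hty : t ∉ y.1.asHomogeneousIdeal := fun hh => hy (Ideal.mul_mem_left _ g hh)
    have hsum : val (U := W) (∑ i, mulSect ℳ (hx i) h (U := W) (τ i)) y =
        ∑ i, val (U := W) (mulSect ℳ (hx i) h (U := W) (τ i)) y := by
      generalize (Finset.univ : Finset (Fin k)) = S
      induction S using Finset.induction_on with
      | empty => rfl
      | insert i S hi ih => rw [Finset.sum_insert hi, Finset.sum_insert hi, ← ih]; rfl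
    refine hsum.trans (Eq.trans ?_ (hσ ⟨y.1, hWU y.2⟩ hty).symm)
    have hterm : ∀ i, val (U := W) (mulSect ℳ (hx i) h (U := W) (τ i)) y =
        LocalizedModule.mk (c' i • x i) ⟨g * t, hy⟩ := fun i =>
      (LocalizedModule.mk_smul_mk _ _ _ _).trans (congrArg _ (mul_one _))
    rw [Finset.sum_congr rfl fun i _ => hterm i, ← mk_smul_den hty hy, hc']
    generalize (Finset.univ : Finset (Fin k)) = S
    induction S using Finset.induction_on with
    | empty => exact (LocalizedModule.zero_mk _).symm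
    | insert i S hi ih =>
      rw [Finset.sum_insert hi, Finset.sum_insert hi, ih, LocalizedModule.mk_add_mk, LocalizedModule.mk_eq]
      exact ⟨1, by simp only [one_smul, Submonoid.smul_def, Submonoid.coe_mul, smul_add, smul_smul, mul_assoc]⟩
  refine (congrArg ((GrTilde.tilde 𝒜 ℳ l).presheaf.germ W p hpW) key).trans ?_
  exact TopCat.Presheaf.germ_res_apply _ _ _ _ _

end Groth.Agent.Lib.ProjFam.Quot
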