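import Groth.Agent.Lib.ProjTilde.QCoh
import Groth.Agent.Lib.QCoh.Localizing

/-!
# Ratios `a / b` of homogeneous elements of the same degree as functions on `Proj`
-/

noncomputable section

universe u

open CategoryTheory AlgebraicGeometry TopologicalSpace Opposite HomogeneousLocalization

namespace Groth.Agent.Lib.ProjFam.Rat

open Groth.Agent.Lib.QCoh.Localizing Groth.Agent.Lib.ProjTilde

variable {R A : Type u} [CommRing R] [CommRing A] [Algebra R A] {𝒜 : ℕ → Submodule R A} [GradedAlgebra 𝒜]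

/-- The value of a function at a point, in the localization. -/
abbrev fval {W : (Proj 𝒜).Opens} (r : Γ(Proj 𝒜, W)) (x : W) : Twist.Loc 𝒜 x.1 :=
  ((r : Twist.O (𝒜 := 𝒜) (op W)).1 x).val

theorem fun_ext {W : (Proj 𝒜).Opens} {r r' : Γ(Proj 𝒜, W)} (h : ∀ x, fval r x = fval r' x) : r = r' :=
  Subtype.ext (funext fun x => HomogeneousLocalization.val_injective _ (h x))

theorem fval_resR {W W' : (Proj 𝒜).Opens} (h : W' ≤ W) (r : Γ(Proj 𝒜, W)) (x : W') :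
    fval (resR h r) x = fval r ⟨x.1, h x.2⟩ := rfl

theorem fval_mul {W : (Proj 𝒜).Opens} (r r' : Γ(Proj 𝒜, W)) (x : W) :
    fval (r * r') x = fval r x * fval r' x :=
  HomogeneousLocalization.val_mul _ _

theorem fval_add {W : (Proj 𝒜).Opens} (r r' : Γ(Proj 𝒜, W)) (x : W) :
    fval (r + r') x = fval r x + fval r' x :=
  HomogeneousLocalization.val_add _ _

theorem fval_zero {W : (Proj 𝒜).Opens} (x : W) : fval (0 : Γ(Proj 𝒜, W)) x = 0 :=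
  HomogeneousLocalization.val_zero

theorem fval_one {W : (Proj 𝒜).Opens} (x : W) : fval (1 : Γ(Proj 𝒜, W)) x = 1 :=
  HomogeneousLocalization.val_one

theorem notMem_of_le {W : (Proj 𝒜).Opens} {b : A} (hW : W ≤ Proj.basicOpen 𝒜 b) (x : W) :
    b ∉ x.1.asHomogeneousIdeal := hW x.2

/-- `a / b` as a function on an open where `b` does not vanish. -/
def rat {k : ℕ} {a b : A} (ha : a ∈ 𝒜 k) (hb : b ∈ 𝒜 k) {W : (Proj 𝒜).Opens} (hW : W ≤ Proj.basicOpen 𝒜 b) :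
    Γ(Proj 𝒜, W) :=
  ⟨fun x => HomogeneousLocalization.mk ⟨k, ⟨a, ha⟩, ⟨b, hb⟩, notMem_of_le hW x⟩,
    fun x => ⟨W, x.2, 𝟙 W, k, ⟨a, ha⟩, ⟨b, hb⟩, fun y => notMem_of_le hW y, fun _ => rfl⟩⟩

theorem fval_rat {k : ℕ} {a b : A} (ha : a ∈ 𝒜 k) (hb : b ∈ 𝒜 k) {W : (Proj 𝒜).Opens}
    (hW : W ≤ Proj.basicOpen 𝒜 b) (x : W) :
    fval (rat ha hb hW) x = Localization.mk a ⟨b, notMem_of_le hW x⟩ := rfl

theorem resR_rat {k : ℕ} {a b : A} (ha : a ∈ 𝒜 k) (hb : b ∈ 𝒜 k) {W W' : (Proj 𝒜).Opens}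
    (hW : W ≤ Proj.basicOpen 𝒜 b) (h : W' ≤ W) : resR h (rat ha hb hW) = rat ha hb (h.trans hW) := rfl

theorem rat_congr {k l : ℕ} {a b a' b' : A} {ha : a ∈ 𝒜 k} {hb : b ∈ 𝒜 k} {ha' : a' ∈ 𝒜 l} {hb' : b' ∈ 𝒜 l}
    {W : (Proj 𝒜).Opens} {hW : W ≤ Proj.basicOpen 𝒜 b} {hW' : W ≤ Proj.basicOpen 𝒜 b'} (h : a * b' = a' * b) :
    rat ha hb hW = rat ha' hb' hW' := by
  refine fun_ext fun x => ?_
  rw [fval_rat, fval_rat, Localization.mk_eq_mk_iff, Localization.r_iff_exists]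
  exact ⟨1, congrArg (fun z => (1 : A) * z) (by simpa [mul_comm] using h)⟩

theorem rat_self {k : ℕ} {b : A} (hb : b ∈ 𝒜 k) {W : (Proj 𝒜).Opens} (hW : W ≤ Proj.basicOpen 𝒜 b) :
    rat hb hb hW = 1 := by
  refine fun_ext fun x => ?_
  rw [fval_rat, fval_one]
  exact Localization.mk_self (⟨b, notMem_of_le hW x⟩ : x.1.asHomogeneousIdeal.toIdeal.primeCompl)

theorem le_basicOpen_mul {W : (Proj 𝒜).Opens} {b b' : A} (hW : W ≤ Proj.basicOpen 𝒜 b)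
    (hW' : W ≤ Proj.basicOpen 𝒜 b') : W ≤ Proj.basicOpen 𝒜 (b * b') := fun x hx h =>
  (x.isPrime.mem_or_mem h).elim (hW hx) (hW' hx)

theorem le_basicOpen_pow {W : (Proj 𝒜).Opens} {b : A} (hW : W ≤ Proj.basicOpen 𝒜 b) (n : ℕ) :
    W ≤ Proj.basicOpen 𝒜 (b ^ n) := fun x hx h => hW hx (x.isPrime.mem_of_pow_mem n h)

theorem pow_mem {f : A} (hf : f ∈ 𝒜 1) (n : ℕ) : f ^ n ∈ 𝒜 n := by
  simpa using SetLike.pow_mem_graded n hf

theorem pow_mem' {f : A} {e : ℕ} (hf : f ∈ 𝒜 e) (n : ℕ) : f ^ n ∈ 𝒜 (n * e) := by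
  simpa using SetLike.pow_mem_graded n hf

theorem rat_mul {k l : ℕ} {a b a' b' : A} (ha : a ∈ 𝒜 k) (hb : b ∈ 𝒜 k) (ha' : a' ∈ 𝒜 l) (hb' : b' ∈ 𝒜 l)
    {W : (Proj 𝒜).Opens} (hW : W ≤ Proj.basicOpen 𝒜 b) (hW' : W ≤ Proj.basicOpen 𝒜 b') :
    rat ha hb hW * rat ha' hb' hW' =
      rat (SetLike.mul_mem_graded ha ha') (SetLike.mul_mem_graded hb hb') (le_basicOpen_mul hW hW') := by
  refine fun_ext fun x => ?_
  rw [fval_mul, fval_rat, fval_rat, fval_rat, Localization.mk_mul]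
  rfl

theorem rat_add {k : ℕ} {a a' b : A} (ha : a ∈ 𝒜 k) (ha' : a' ∈ 𝒜 k) (hb : b ∈ 𝒜 k) {W : (Proj 𝒜).Opens}
    (hW : W ≤ Proj.basicOpen 𝒜 b) : rat (add_mem ha ha') hb hW = rat ha hb hW + rat ha' hb hW := by
  refine fun_ext fun x => ?_
  rw [fval_add, fval_rat, fval_rat, fval_rat, Localization.add_mk, Localization.mk_eq_mk_iff,
    Localization.r_iff_exists]
  exact ⟨1, by push_cast; ring⟩

theorem rat_zero {k : ℕ} {b : A} (hb : b ∈ 𝒜 k) {W : (Proj 𝒜).Opens} (hW : W ≤ Proj.basicOpen 𝒜 b) :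
    rat (zero_mem (𝒜 k)) hb hW = 0 := by
  refine fun_ext fun x => ?_
  rw [fval_rat, fval_zero, Localization.mk_zero]

theorem rat_pow {k : ℕ} {a b : A} (ha : a ∈ 𝒜 k) (hb : b ∈ 𝒜 k) {W : (Proj 𝒜).Opens}
    (hW : W ≤ Proj.basicOpen 𝒜 b) (n : ℕ) :
    rat ha hb hW ^ n = rat (pow_mem' ha n) (pow_mem' hb n) (le_basicOpen_pow hW n) := by
  induction n with
  | zero =>
    refine ((pow_zero _).trans ?_)
    refine fun_ext fun x => ?_
    rw [fval_one, fval_rat, ← Localization.mk_one, Localization.mk_eq_mk_iff, Localization.r_iff_exists]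
    exact ⟨1, by simp⟩
  | succ n ih =>
    rw [pow_succ, ih, rat_mul]
    exact rat_congr (by rw [pow_succ, pow_succ])

theorem awayToSection_eq_rat {f : A} (hf : f ∈ 𝒜 1) (e : ℕ) (a : A) (ha : a ∈ 𝒜 (e • 1)) :
    ((Proj.awayToSection 𝒜 f).hom (Away.mk 𝒜 hf e a ha) : Γ(Proj 𝒜, Proj.basicOpen 𝒜 f)) =
      rat (k := e) (by simpa using ha) (pow_mem hf e) (le_basicOpen_pow le_rfl e) :=
  fun_ext fun x => QCoh.val_awayToSection hf e a ha x fun h => x.2 (x.1.isPrime.mem_of_pow_mem e h)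

theorem exists_rat {f : A} (hf : f ∈ 𝒜 1) (z : Γ(Proj 𝒜, Proj.basicOpen 𝒜 f)) :
    ∃ (k : ℕ) (a : A) (ha : a ∈ 𝒜 k), z = rat ha (pow_mem hf k) (le_basicOpen_pow le_rfl k) := by
  obtain ⟨y, rfl⟩ := (ConcreteCategory.bijective_of_isIso (Proj.basicOpenIsoAway 𝒜 f hf one_pos).hom).2 z
  obtain ⟨k, a, ha, rfl⟩ := HomogeneousLocalization.Away.mk_surjective 𝒜 hf y
  exact ⟨k, a, by simpa using ha, awayToSection_eq_rat hf k a ha⟩

theorem basicOpen_rat {f : A} (hf : f ∈ 𝒜 1) {k : ℕ} {a : A} (ha : a ∈ 𝒜 k) :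
    (Proj 𝒜).basicOpen (rat ha (pow_mem hf k) (le_basicOpen_pow le_rfl k) : Γ(Proj 𝒜, Proj.basicOpen 𝒜 f)) =
      Proj.basicOpen 𝒜 (f * a) := by
  rw [← awayToSection_eq_rat hf k a (by simpa using ha)]
  exact QCoh.basicOpen_awayToSection hf k a (by simpa using ha)

end Groth.Agent.Lib.ProjFam.Rat
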