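import Groth.Agent.Lib.ProjFam.Fam
import Mathlib.Algebra.DirectSum.Module
import Mathlib.Algebra.DirectSum.Ring

/-!
# The graded module of compatible families
-/

noncomputable section

universe u

open CategoryTheory AlgebraicGeometry TopologicalSpace Opposite DirectSum

namespace Groth.Agent.Lib.ProjFam.Total

open Groth.Agent.Lib.ProjTilde Rat Fam

variable {R A : Type u} [CommRing R] [CommRing A] [Algebra R A] {𝒜 : ℕ → Submodule R A} [GradedAlgebra 𝒜]
variable {s : Finset A} (hs1 : ∀ f ∈ s, f ∈ 𝒜 1) (F : (Proj 𝒜).Modules)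

/-- The sum over all degrees of the families of that degree. -/
def Tot : Type u := ⨁ n, fam hs1 F n

instance : AddCommGroup (Tot hs1 F) := inferInstanceAs (AddCommGroup (⨁ n, fam hs1 F n))

variable {hs1 F}

/-- Inclusion of degree `n`. -/
def incl (n : ℕ) : fam hs1 F n →+ Tot hs1 F := DirectSum.of (fun n => fam hs1 F n) n

/-- The component of degree `n`. -/
def comp (n : ℕ) : Tot hs1 F →+ Tup 𝒜 s F :=
  (fam hs1 F n).subtype.comp (DFinsupp.evalAddMonoidHom (β := fun n => fam hs1 F n) n)

theorem comp_incl (n : ℕ) (v : fam hs1 F n) : comp n (incl n v) = v.1 := by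
  change ((DirectSum.of (fun n => fam hs1 F n) n v) n).1 = v.1
  rw [DirectSum.of_eq_same]

theorem comp_incl_ne {n m : ℕ} (h : n ≠ m) (v : fam hs1 F n) : comp m (incl n v) = 0 := by
  change ((DirectSum.of (fun n => fam hs1 F n) n v) m).1 = 0
  rw [DirectSum.of_eq_of_ne _ _ _ h.symm]
  rfl

/-- The underlying element of the direct sum. -/
def toDS : Tot hs1 F →+ ⨁ n, fam hs1 F n := AddMonoidHom.id _

theorem comp_mem (n : ℕ) (x : Tot hs1 F) : IsFam hs1 F n (comp n x) :=
  ((toDS x) n).2

theorem tot_ext {x y : Tot hs1 F} (h : ∀ n, comp n x = comp n y) : x = y :=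
  DirectSum.ext fun n => Subtype.ext (h n)

theorem incl_congr {n m : ℕ} (h : n = m) {v : fam hs1 F n} {w : fam hs1 F m} (hv : v.1 = w.1) :
    incl n v = incl m w := by
  subst h
  rw [Subtype.ext hv]

@[elab_as_elim]
theorem tot_induction {P : Tot hs1 F → Prop} (x : Tot hs1 F) (h0 : P 0) (hi : ∀ n v, P (incl n v))
    (ha : ∀ x y, P x → P y → P (x + y)) : P x :=
  DirectSum.induction_on x h0 hi fun x y => ha x y

/-- The action of `a ∈ 𝒜 k` on the degree `n` part. -/
def opPart {k : ℕ} (a : 𝒜 k) (n : ℕ) : fam hs1 F n →+ Tot hs1 F :=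
  (incl (k + n)).comp
    { toFun := fun v => ⟨act hs1 F a.2 v.1, IsFam.act a.2 v.2⟩
      map_zero' := Subtype.ext (map_zero (act hs1 F a.2))
      map_add' := fun v w => Subtype.ext (map_add (act hs1 F a.2) v.1 w.1) }

theorem opPart_apply {k : ℕ} (a : 𝒜 k) {n : ℕ} (v : fam hs1 F n) :
    opPart a n v = incl (k + n) ⟨act hs1 F a.2 v.1, IsFam.act a.2 v.2⟩ := rfl

/-- The action of `a ∈ 𝒜 k`. -/
def op' {k : ℕ} (a : 𝒜 k) : Tot hs1 F →+ Tot hs1 F :=
  DirectSum.toAddMonoid (β := fun n => fam hs1 F n) (opPart a)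

theorem op'_incl {k : ℕ} (a : 𝒜 k) {n : ℕ} (v : fam hs1 F n) :
    op' a (incl n v) = incl (k + n) ⟨act hs1 F a.2 v.1, IsFam.act a.2 v.2⟩ :=
  (DirectSum.toAddMonoid_of (β := fun n => fam hs1 F n) (opPart a) n v).trans (opPart_apply a v)

/-- The action of degree `k` as an additive map. -/
def opHom (k : ℕ) : 𝒜 k →+ (Tot hs1 F →+ Tot hs1 F) where
  toFun a := op' a
  map_zero' := AddMonoidHom.ext fun x => by
    rw [AddMonoidHom.zero_apply]
    induction x using tot_induction with
    | h0 => exact map_zero _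
    | hi n v =>
      rw [op'_incl]
      exact (congrArg (incl (k + n)) (Subtype.ext (act_zero (hs1 := hs1) (k := k) v.1))).trans (map_zero _)
    | ha x y hx hy => rw [map_add, hx, hy, add_zero]
  map_add' a b := AddMonoidHom.ext fun x => by
    rw [AddMonoidHom.add_apply]
    induction x using tot_induction with
    | h0 => simp only [map_zero, add_zero]
    | hi n v =>
      rw [op'_incl, op'_incl, op'_incl, ← map_add]
      exact congrArg (incl (k + n)) (Subtype.ext (act_add a.2 b.2 v.1))
    | ha x y hx hy => rw [map_add, hx, hy, map_add, map_add]; abel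

/-- The action of `A`, as an additive map. -/
def sc : A →+ (Tot hs1 F →+ Tot hs1 F) :=
  (DirectSum.toAddMonoid (β := fun k => 𝒜 k) (opHom (hs1 := hs1) (F := F))).comp
    (decomposeAddEquiv 𝒜).toAddMonoidHom

theorem sc_of_mem {k : ℕ} {a : A} (ha : a ∈ 𝒜 k) : sc (hs1 := hs1) (F := F) a = op' ⟨a, ha⟩ := by
  change DirectSum.toAddMonoid (β := fun k => 𝒜 k) (opHom (hs1 := hs1) (F := F)) (decompose 𝒜 a) = _
  rw [decompose_of_mem 𝒜 ha]
  exact DirectSum.toAddMonoid_of (β := fun k => 𝒜 k) _ _ _

theorem sc_incl {k : ℕ} {a : A} (ha : a ∈ 𝒜 k) {n : ℕ} (v : fam hs1 F n) :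
    sc a (incl n v) = incl (k + n) ⟨act hs1 F ha v.1, IsFam.act ha v.2⟩ := by
  rw [sc_of_mem ha, op'_incl]

theorem sc_one (x : Tot hs1 F) : sc (1 : A) x = x := by
  induction x using tot_induction with
  | h0 => exact map_zero _
  | hi n v =>
    rw [sc_incl SetLike.GradedOne.one_mem]
    exact incl_congr (zero_add n) (act_one v.1)
  | ha x y hx hy => rw [map_add, hx, hy]

theorem sc_mul (a b : A) (x : Tot hs1 F) : sc (a * b) x = sc a (sc b x) := by
  induction x using tot_induction with
  | h0 => simp only [map_zero]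
  | hi n v =>
    induction a using DirectSum.Decomposition.inductionOn 𝒜 with
    | zero => simp only [zero_mul, map_zero, AddMonoidHom.zero_apply]
    | @homogeneous i a =>
      induction b using DirectSum.Decomposition.inductionOn 𝒜 with
      | zero => simp only [mul_zero, map_zero, AddMonoidHom.zero_apply]
      | @homogeneous j b =>
        rw [sc_incl (SetLike.mul_mem_graded a.2 b.2), sc_incl b.2, sc_incl a.2]
        exact incl_congr (add_assoc i j n) (act_act a.2 b.2 v.1).symm
      | add b b' hb hb' => simp only [mul_add, map_add, AddMonoidHom.add_apply, hb, hb']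
    | add a a' ha ha' => simp only [add_mul, map_add, AddMonoidHom.add_apply, ha, ha']
  | ha x y hx hy => simp only [map_add, hx, hy]

variable (hs1 F) in
/-- The action of `A`. -/
def actHom : A →+* AddMonoid.End (Tot hs1 F) where
  toFun a := sc a
  map_one' := AddMonoidHom.ext sc_one
  map_mul' a b := AddMonoidHom.ext (sc_mul a b)
  map_zero' := map_zero sc
  map_add' a b := map_add sc a b

instance instModule : Module A (Tot hs1 F) := Module.compHom _ (actHom hs1 F)

instance instModuleR : Module R (Tot hs1 F) := Module.compHom _ (algebraMap R A)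

instance : IsScalarTower R A (Tot hs1 F) :=
  ⟨fun r a x => by
    rw [Algebra.smul_def, mul_smul]
    rfl⟩

theorem smul_incl {k : ℕ} {a : A} (ha : a ∈ 𝒜 k) {n : ℕ} (v : fam hs1 F n) :
    a • incl n v = incl (k + n) ⟨act hs1 F ha v.1, IsFam.act ha v.2⟩ :=
  sc_incl ha v

/-- Degree-`n` part. -/
def grade (n : ℕ) : Submodule R (Tot hs1 F) where
  toAddSubmonoid := (incl n).range.toAddSubmonoid
  smul_mem' r := by
    rintro _ ⟨v, rfl⟩
    refine ⟨⟨act hs1 F (SetLike.algebraMap_mem_graded 𝒜 r) v.1, ?_⟩,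
      ((smul_incl (SetLike.algebraMap_mem_graded 𝒜 r) v).trans (incl_congr (zero_add n) rfl)).symm⟩
    change IsFam hs1 F n _
    simpa only [zero_add] using (IsFam.act (SetLike.algebraMap_mem_graded 𝒜 r) v.2 :
      IsFam hs1 F (0 + n) _)

theorem incl_mem_grade (n : ℕ) (v : fam hs1 F n) : incl n v ∈ grade n := ⟨v, rfl⟩

theorem eq_incl_of_mem {n : ℕ} {x : Tot hs1 F} (hx : x ∈ grade n) :
    x = incl n ⟨comp n x, comp_mem n x⟩ := by
  obtain ⟨v, rfl⟩ := hx
  exact incl_congr rfl (comp_incl n v).symm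

theorem comp_smul {k : ℕ} {a : A} (ha : a ∈ 𝒜 k) (n : ℕ) (x : Tot hs1 F) :
    comp (k + n) (a • x) = act hs1 F ha (comp n x) := by
  induction x using tot_induction with
  | h0 => simp
  | hi m v =>
    rw [smul_incl ha]
    by_cases h : m = n
    · subst h; rw [comp_incl, comp_incl]
    · rw [comp_incl_ne h, comp_incl_ne (by omega), map_zero]
  | ha x y hx hy => rw [smul_add, map_add, hx, hy, map_add, map_add]

variable (hs1 F) in
/-- The decomposition. -/
def toGrade : Tot hs1 F →+ ⨁ n, grade (hs1 := hs1) (F := F) n :=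
  DirectSum.toAddMonoid fun n =>
    (DirectSum.of (fun n => grade (hs1 := hs1) (F := F) n) n).comp ((incl n).codRestrict _ (incl_mem_grade n))

theorem toGrade_incl (n : ℕ) (v : fam hs1 F n) :
    toGrade hs1 F (incl n v) = DirectSum.of (fun n => grade (hs1 := hs1) (F := F) n) n ⟨incl n v, incl_mem_grade n v⟩ :=
  DirectSum.toAddMonoid_of _ _ _

instance instDecomposition : DirectSum.Decomposition (grade (hs1 := hs1) (F := F)) :=
  DirectSum.Decomposition.ofAddHom _ (toGrade hs1 F)
    (DirectSum.addHom_ext fun n v => by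
      change DirectSum.coeAddMonoidHom _ (toGrade hs1 F (incl n v)) = incl n v
      rw [toGrade_incl, DirectSum.coeAddMonoidHom_of])
    (DirectSum.addHom_ext fun n w => by
      obtain ⟨x, v, rfl⟩ := w
      change toGrade hs1 F (DirectSum.coeAddMonoidHom _ (DirectSum.of _ n _)) = _
      rw [DirectSum.coeAddMonoidHom_of]
      exact toGrade_incl n v)

instance : SetLike.GradedSMul 𝒜 (grade (hs1 := hs1) (F := F)) where
  smul_mem {i j a x} ha hx := by
    obtain ⟨v, rfl⟩ := hx
    exact ⟨_, (smul_incl ha v).symm⟩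

end Groth.Agent.Lib.ProjFam.Total
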